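import Cfsg.Agent.Lib.HallSolvable
import Cfsg.Agent.Lib.NilpotentCommute
import Cfsg.Agent.Lib.RankAutomizer
import Cfsg.Agent.Lib.UniqueSubgroup
import Cfsg.Agent.Lib.Involutions
import Cfsg.Agent.Lib.TIHall.Basic
import Cfsg.Prelude.Def_LocalEven

/-!
Groups in which the subgroups of order prime to `p` are nilpotent (`p > 3`): the setting of a minimal
counterexample and its elementary consequences.
-/

set_option autoImplicit false
set_option linter.unusedSectionVars false

namespace CfsgLib.PNilHall

open Subgroup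
open scoped Pointwise

universe u

/-- A non-solvable simple group with solvable proper subgroups whose subgroups of order prime to `p` are
nilpotent. -/
structure Setting (p : ℕ) (G : Type u) [Group G] [Finite G] : Prop where
  prime : p.Prime
  three_lt : 3 < p
  simple : IsSimpleGroup G
  nsol : ¬ Group.IsSolvable G
  sol : ∀ H : Subgroup G, H ≠ ⊤ → Group.IsSolvable H
  nil : ∀ H : Subgroup G, (Nat.card H).Coprime p → Group.IsNilpotent H

variable {G : Type u} [Group G] [Finite G]

/-- Two elements of coprime order in a nilpotent subgroup commute. -/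
theorem comm_of_nilpotent {H : Subgroup G} (hH : Group.IsNilpotent H) {a b : G} (ha : a ∈ H) (hb : b ∈ H)
    (hab : (orderOf a).Coprime (orderOf b)) : a * b = b * a :=
  congrArg Subtype.val (CfsgLib.commute_of_nilpotent (H := H) ⟨a, ha⟩ ⟨b, hb⟩
    (by simpa only [Subgroup.orderOf_mk] using hab)).eq

/-- In a finite solvable subgroup, a subgroup of order prime to `p` lies in a Hall `p'`-subgroup. -/
theorem exists_hall {p : ℕ} [Fact p.Prime] {M A : Subgroup G} (hM : Group.IsSolvable M) (hAM : A ≤ M)
    (hA : (Nat.card A).Coprime p) :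
    ∃ H : Subgroup G, A ≤ H ∧ H ≤ M ∧ (Nat.card H).Coprime p ∧ ∃ k, Nat.card M = Nat.card H * p ^ k := by
  have hp := (Fact.out : p.Prime)
  obtain ⟨k, m, hm, he⟩ := Nat.exists_eq_pow_mul_and_not_dvd (Nat.card_pos (α := M)).ne' p hp.ne_one
  have hmp : m.Coprime p := (hp.coprime_iff_not_dvd.mpr hm).symm
  have hcard : Nat.card M = m * p ^ k := by rw [he, mul_comm]
  obtain ⟨⟨H, hH⟩, hconj⟩ := CfsgLib.hall_main hcard (hmp.pow_right k)
  have hdvd : Nat.card (A.subgroupOf M) ∣ m := by
    rw [Nat.card_congr (subgroupOfEquivOfLe hAM).toEquiv]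
    exact Nat.Coprime.dvd_of_dvd_mul_right (hA.pow_right k) (hcard ▸ card_dvd_of_le hAM)
  obtain ⟨g, hg⟩ := hconj H (A.subgroupOf M) hH hdvd
  set H' := ((MulAut.conj g⁻¹) • H : Subgroup M)
  have hH' : Nat.card H' = m := by rw [CfsgLib.card_conj_smul, hH]
  refine ⟨H'.map M.subtype, fun a ha => ⟨⟨a, hAM ha⟩, ?_, rfl⟩, map_subtype_le _, ?_, k, ?_⟩
  · have h1 : MulAut.conj g • (⟨a, hAM ha⟩ : M) ∈ H :=
      hg (Subgroup.smul_mem_pointwise_smul _ _ (A.subgroupOf M) ha)
    have h2 := Subgroup.smul_mem_pointwise_smul _ (MulAut.conj g⁻¹) H h1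
    rwa [smul_smul, ← map_mul, inv_mul_cancel, map_one, one_smul] at h2
  · rwa [card_map_of_injective M.subtype_injective, hH']
  · rw [card_map_of_injective M.subtype_injective, hH', hcard]

variable {p : ℕ}

theorem Setting.ne_two (hS : Setting p G) : p ≠ 2 := by have := hS.three_lt; omega

theorem Setting.coprime_two_pow (hS : Setting p G) (k : ℕ) : (2 ^ k).Coprime p :=
  ((Nat.coprime_primes Nat.prime_two hS.prime).mpr hS.ne_two.symm).pow_left k

theorem Setting.center_eq_bot (hS : Setting p G) : Subgroup.center G = ⊥ := by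
  haveI := hS.simple
  refine ((inferInstance : (Subgroup.center G).Normal).eq_bot_or_eq_top).resolve_right fun h => hS.nsol ?_
  exact Group.isSolvable_of_comm fun a b => (Subgroup.mem_center_iff.1 (h ▸ mem_top a : a ∈ center G) b).symm

theorem Setting.centralizer_ne_top (hS : Setting p G) {y : G} (hy : y ≠ 1) :
    centralizer ({y} : Set G) ≠ ⊤ := fun h => hy (by
  rw [← Subgroup.mem_bot, ← hS.center_eq_bot, Subgroup.mem_center_iff]
  intro g
  exact (mem_centralizer_singleton_iff.1 (h ▸ mem_top g : g ∈ centralizer ({y} : Set G))))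

theorem Setting.normalizer_ne_top (hS : Setting p G) {H : Subgroup G} (hH : H ≠ ⊥) (hH' : H ≠ ⊤) :
    normalizer (H : Set G) ≠ ⊤ := fun h => by
  haveI := hS.simple
  haveI : H.Normal := normalizer_eq_top_iff.1 h
  exact ((inferInstance : H.Normal).eq_bot_or_eq_top).elim hH hH'

theorem Setting.ne_top_of_isPGroup (hS : Setting p G) {q : ℕ} [Fact q.Prime] {H : Subgroup G}
    (hH : IsPGroup q H) : H ≠ ⊤ := fun h => hS.nsol (by
  subst h
  haveI := hH.isNilpotent
  exact Group.isSolvable_of_surjective (f := (⊤ : Subgroup G).subtype) fun g => ⟨⟨g, mem_top g⟩, rfl⟩)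

/-- An element of order prime to `p` normalizing a 2-group has order prime to 2 only if it centralizes it. -/
theorem Setting.comm_two_group (hS : Setting p G) {Q : Subgroup G} (hQ : IsPGroup 2 Q) {g : G}
    (hg : g ∈ normalizer (Q : Set G)) (hodd : Odd (orderOf g)) (hgp : (orderOf g).Coprime p) :
    g ∈ centralizer (Q : Set G) := by
  haveI := Fact.mk Nat.prime_two
  intro q hq
  obtain ⟨k, hk⟩ := hQ ⟨q, hq⟩
  have hq2 : orderOf q ∣ 2 ^ k := orderOf_dvd_of_pow_eq_one (congrArg Subtype.val hk)
  set H := Q ⊔ zpowers g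
  have hle : zpowers g ≤ normalizer (Q : Set G) := zpowers_le.2 hg
  have hH : (Nat.card H).Coprime p := by
    have h1 : Nat.card H ∣ Nat.card Q * Nat.card (zpowers g) := by
      have h2 := CfsgLib.TIHall.card_sup_dvd_of_le_normalizer hle
      rw [sup_comm] at h2
      rwa [mul_comm]
    refine Nat.Coprime.coprime_dvd_left h1 (Nat.Coprime.mul_left ?_ (by rwa [Nat.card_zpowers]))
    obtain ⟨j, hj⟩ := IsPGroup.iff_card.1 hQ
    exact hj ▸ hS.coprime_two_pow j
  refine comm_of_nilpotent (hS.nil H hH) (mem_sup_left hq) (mem_sup_right (mem_zpowers g)) ?_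
  exact Nat.Coprime.coprime_dvd_left hq2 ((Nat.coprime_two_left.2 hodd).pow_left k)

/-- An involution inverts only `p`-elements among the elements of odd order. -/
theorem Setting.exists_pow_of_inverted (hS : Setting p G) {t x : G} (ht : t * t = 1)
    (hx : t * x * t⁻¹ = x⁻¹) (hodd : Odd (orderOf x)) : ∃ k, orderOf x = p ^ k := by
  haveI := Fact.mk hS.prime
  obtain ⟨k, m, hm, he⟩ := Nat.exists_eq_pow_mul_and_not_dvd (orderOf_pos x).ne' p hS.prime.ne_one
  refine ⟨k, ?_⟩
  set y := x ^ p ^ k with hy
  have hym : orderOf y = m := by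
    rw [hy, orderOf_pow' x (pow_ne_zero k hS.prime.ne_zero), he,
      Nat.gcd_eq_right (Dvd.intro _ rfl), Nat.mul_div_cancel_left _ (pow_pos hS.prime.pos k)]
  have hmodd : Odd m := (Nat.odd_mul.1 (he ▸ hodd)).2
  have htn : t ∈ normalizer (zpowers y : Set G) := by
    refine mem_normalizer_iff.2 fun w => ?_
    have hc : t * y * t⁻¹ = y⁻¹ := by rw [hy, ← conj_pow, hx, inv_pow]
    have key : ∀ w ∈ zpowers y, t * w * t⁻¹ ∈ zpowers y := by
      rintro _ ⟨i, rfl⟩
      show t * y ^ i * t⁻¹ ∈ _
      rw [← conj_zpow, hc, inv_zpow]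
      exact inv_mem (zpow_mem (mem_zpowers y) i)
    refine ⟨key w, fun hw => ?_⟩
    have h2 := key _ hw
    have ht' : t⁻¹ = t := inv_eq_of_mul_eq_one_right ht
    rw [ht'] at h2
    rwa [show t * (t * w * t) * t = (t * t) * w * (t * t) by group, ht, one_mul, mul_one] at h2
  set H := zpowers t ⊔ zpowers y
  have hH : (Nat.card H).Coprime p := by
    refine Nat.Coprime.coprime_dvd_left (CfsgLib.TIHall.card_sup_dvd_of_le_normalizer (zpowers_le.2 htn)) ?_
    refine Nat.Coprime.mul_left ?_ ?_
    · rw [Nat.card_zpowers]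
      refine Nat.Coprime.coprime_dvd_left (orderOf_dvd_of_pow_eq_one (n := 2) (by rw [pow_two, ht])) ?_
      simpa using hS.coprime_two_pow 1
    · rw [Nat.card_zpowers, hym]
      exact (hS.prime.coprime_iff_not_dvd.mpr hm).symm
  have hcop : (orderOf t).Coprime (orderOf y) := by
    rw [hym]
    exact Nat.Coprime.coprime_dvd_left (orderOf_dvd_of_pow_eq_one (n := 2) (by rw [pow_two, ht]))
      (Nat.coprime_two_left.2 hmodd)
  have hc : t * y = y * t :=
    comm_of_nilpotent (hS.nil H hH) (mem_sup_left (mem_zpowers t)) (mem_sup_right (mem_zpowers y)) hcop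
  have h2 : y = y⁻¹ := by
    rw [hy, ← inv_pow, ← hx, conj_pow, ← hy, hc, mul_inv_cancel_right]
  have h3 : y * y = 1 := mul_eq_one_iff_eq_inv.2 h2
  have h4 : orderOf y ∣ 2 := orderOf_dvd_of_pow_eq_one (by rw [pow_two, h3])
  rw [hym] at h4
  have h5 : m = 1 := ((Nat.dvd_prime Nat.prime_two).1 h4).resolve_right fun e => by
    rw [e] at hmodd; exact absurd hmodd (by decide)
  rw [he, h5, mul_one]

/-- A 2-subgroup all of whose elementary abelian subgroups have order at most 2 is generated by two elements. -/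
theorem rank_le_two {Q : Subgroup G} (hQ : IsPGroup 2 Q) (h : Cfsg.PRankLE 2 1 Q) : Group.rank Q ≤ 2 := by
  classical
  haveI := Fact.mk Nat.prime_two
  by_cases hbot : Q = ⊥
  · subst hbot
    refine (Group.rank_le (S := (∅ : Finset (⊥ : Subgroup G))) ?_).trans (by simp)
    exact Subsingleton.elim _ _
  haveI : Nontrivial Q := (Subgroup.nontrivial_iff_ne_bot Q).2 hbot
  obtain ⟨n, hn, hc⟩ := hQ.nontrivial_iff_card.1 inferInstance
  haveI := hQ.center_nontrivial
  obtain ⟨⟨z, hzc⟩, hz⟩ : ∃ c : Subgroup.center Q, orderOf c = 2 := by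
    refine exists_prime_orderOf_dvd_card' 2 ?_
    obtain ⟨m, hm⟩ := (hQ.to_subgroup (Subgroup.center Q)).exists_card_eq
    rw [hm]
    refine dvd_pow_self 2 fun e => ?_
    rw [e, pow_zero] at hm
    exact (Finite.one_lt_card (α := Subgroup.center Q)).ne' hm
  rw [Subgroup.orderOf_mk] at hz
  have huniq : ∀ x : Q, x ^ 2 = 1 → x ∈ zpowers z := by
    intro x hx
    by_contra hxz
    have hcx : Commute z x := ((Subgroup.mem_center_iff.1 hzc) x).symm
    set A := zpowers z ⊔ zpowers x
    have hA : A ≤ centralizer (A : Set Q) := by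
      refine sup_le (zpowers_le.2 fun a _ => ((Subgroup.mem_center_iff.1 hzc) a)) (zpowers_le.2 ?_)
      intro a ha
      have : A ≤ centralizer ({x} : Set Q) := sup_le (zpowers_le.2 (mem_centralizer_singleton_iff.2 hcx.eq))
        (zpowers_le.2 (mem_centralizer_singleton_iff.2 rfl))
      exact mem_centralizer_singleton_iff.1 (this ha)
    have hAc : IsMulCommutative A := ⟨⟨fun a b => Subtype.ext (hA b.2 a.1 a.2)⟩⟩
    have hA2 : ∀ a ∈ A, a ^ 2 = 1 := by
      intro a ha
      have hgen : A = closure {z, x} := by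
        rw [show ({z, x} : Set Q) = {z} ∪ {x} by rfl, Subgroup.closure_union, ← zpowers_eq_closure,
          ← zpowers_eq_closure]
      rw [hgen] at ha hA
      induction ha using Subgroup.closure_induction with
      | mem a ha =>
        rcases ha with rfl | rfl
        · rw [← hz, pow_orderOf_eq_one]
        · exact hx
      | one => exact one_pow 2
      | mul a b ha hb iha ihb => rw [(show Commute a b from hA hb a ha).mul_pow, iha, ihb, one_mul]
      | inv a ha iha => rw [inv_pow, iha, inv_one]
    have hcard := h A hAc hA2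
    have hlt : zpowers z < A := lt_of_le_of_ne le_sup_left fun e => hxz (e ▸ mem_sup_right (mem_zpowers x))
    have h2 : Nat.card (zpowers z) < Nat.card A := by
      refine lt_of_le_of_ne (Subgroup.card_le_of_le hlt.le) fun e => ?_
      exact hlt.ne (Subgroup.eq_of_le_of_card_ge hlt.le e.ge)
    rw [Nat.card_zpowers, hz] at h2
    omega
  rcases CfsgLib.UniqueSubgroup.cyclic_or_quaternion hQ hz huniq with hcyc | ⟨-, m, -, ⟨e⟩⟩
  · obtain ⟨g, hg⟩ := hcyc.exists_zpow_surjective
    refine (Group.rank_le (S := ({g} : Finset Q)) ?_).trans (by simp)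
    rw [Finset.coe_singleton, ← Subgroup.zpowers_eq_closure, eq_top_iff]
    intro q _
    exact hg q
  · rw [Group.rank_congr e]
    classical
    set T : Finset (QuaternionGroup (2 ^ m)) := {QuaternionGroup.a 1, QuaternionGroup.xa 0} with hT
    refine (Group.rank_le (S := T) ?_).trans Finset.card_le_two
    rw [eq_top_iff]
    intro q _
    have h1 : QuaternionGroup.a 1 ∈ closure (T : Set (QuaternionGroup (2 ^ m))) := subset_closure (by simp [hT])
    have h2 : QuaternionGroup.xa 0 ∈ closure (T : Set (QuaternionGroup (2 ^ m))) := subset_closure (by simp [hT])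
    have ha : ∀ i : ZMod (2 * 2 ^ m),
        (QuaternionGroup.a i : QuaternionGroup (2 ^ m)) ∈ closure (T : Set (QuaternionGroup (2 ^ m))) := by
      intro i
      have h3 := Subgroup.pow_mem _ h1 i.val
      rwa [QuaternionGroup.a_one_pow, ZMod.natCast_zmod_val] at h3
    rcases q with i | i
    · exact ha i
    · rw [show (QuaternionGroup.xa i : QuaternionGroup (2 ^ m)) = QuaternionGroup.xa 0 * QuaternionGroup.a i by simp]
      exact mul_mem h2 (ha i)

end CfsgLib.PNilHall
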