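import Cfsg.Agent.Lib.PNilHall.Strong

/-!
The case of a strongly embedded subgroup with a nontrivial normal 2-subgroup.
-/

set_option autoImplicit false
set_option maxHeartbeats 800000
set_option linter.unusedSectionVars false
set_option linter.style.haveILetI false

namespace CfsgLib.PNilHall

open Subgroup Cfsg CfsgLib.StronglyEmbedded
open scoped Pointwise

universe u

variable {G : Type u} [Group G] [Finite G] {p : ℕ}

/-- The number of conjugates of `z` under `H`. -/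
theorem card_conjugates (H : Subgroup G) (z : G) :
    Nat.card {t : G // ∃ g ∈ H, g * z * g⁻¹ = t} = (centralizer ({z} : Set G)).relIndex H := by
  set C := centralizer ({z} : Set G)
  let φ : H ⧸ C.subgroupOf H → {t : G // ∃ g ∈ H, g * z * g⁻¹ = t} := Quotient.lift
    (fun h : H => ⟨h * z * (h : G)⁻¹, h, h.2, rfl⟩)
    (fun a b hab => by
      replace hab : ((a⁻¹ * b : H) : G) ∈ C := (QuotientGroup.leftRel_apply (s := C.subgroupOf H)).1 hab
      have h1 := mem_centralizer_singleton_iff.1 hab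
      push_cast at h1
      refine Subtype.ext ?_
      show (a : G) * z * (a : G)⁻¹ = (b : G) * z * (b : G)⁻¹
      calc (a : G) * z * (a : G)⁻¹ = a * (z * ((a : G)⁻¹ * b)) * (b : G)⁻¹ := by group
        _ = a * (((a : G)⁻¹ * b) * z) * (b : G)⁻¹ := by rw [h1]
        _ = b * z * (b : G)⁻¹ := by group)
  have hinj : Function.Injective φ := by
    intro a b
    induction a using QuotientGroup.induction_on with | _ a => ?_
    induction b using QuotientGroup.induction_on with | _ b => ?_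
    intro hab
    rw [QuotientGroup.eq, mem_subgroupOf]
    refine mem_centralizer_singleton_iff.2 ?_
    have h1 : (a : G) * z * (a : G)⁻¹ = b * z * (b : G)⁻¹ := congrArg Subtype.val hab
    push_cast
    calc (a : G)⁻¹ * b * z = (a : G)⁻¹ * ((b : G) * z * (b : G)⁻¹) * b := by group
      _ = z * ((a : G)⁻¹ * b) := by rw [← h1]; group
  have hsur : Function.Surjective φ := by
    rintro ⟨_, g, hg, rfl⟩
    exact ⟨QuotientGroup.mk ⟨g, hg⟩, rfl⟩
  exact (Nat.card_eq_of_bijective φ ⟨hinj, hsur⟩).symm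

theorem two_pow_eq_prime_pow_add_one {p a f : ℕ} (hp : p.Prime) (h3 : 3 < p) (ha : 1 ≤ a)
    (h : 2 ^ f = p ^ a + 1) : a = 1 := by
  have hodd : Odd p := hp.odd_of_ne_two (by omega)
  have hp1 : p ≤ p ^ a := Nat.le_self_pow (by omega) p
  rcases Nat.even_or_odd a with ⟨b, rfl⟩ | hodd'
  · exfalso
    have hf : 2 ≤ f := by
      by_contra hf
      push Not at hf
      have : 2 ^ f ≤ 2 := Nat.le_self_pow (n := 1) one_ne_zero 2 |>.trans' (by
        exact (Nat.pow_le_pow_right (by norm_num) (show f ≤ 1 by omega)).trans (by norm_num))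
      omega
    have h4 : 4 ∣ 2 ^ f := (pow_dvd_pow 2 hf : 2 ^ 2 ∣ 2 ^ f)
    obtain ⟨k, hk⟩ := hodd.pow (n := b)
    rw [h, pow_add, hk] at h4
    have h5 : (2 * k + 1) * (2 * k + 1) + 1 = 4 * (k * k + k) + 2 := by ring
    omega
  obtain ⟨s, -, hs⟩ : ∃ s ≤ f, p + 1 = 2 ^ s := by
    refine (Nat.dvd_prime_pow Nat.prime_two).1 ?_
    have := Odd.nat_add_dvd_pow_add_pow p 1 hodd'
    rwa [one_pow, ← h] at this
  have hs1 : 1 ≤ s := by
    rcases s with _ | s
    · simp at hs; omega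
    · omega
  have hsq : p * p ≡ 1 [MOD 2 ^ (s + 1)] := by
    refine ((Nat.modEq_iff_dvd' (Nat.one_le_iff_ne_zero.2 (Nat.mul_ne_zero hp.ne_zero hp.ne_zero))).2 ?_).symm
    have h6 : p * p - 1 = (p + 1) * (p - 1) := by
      have := Nat.sq_sub_sq p 1
      simpa [pow_two] using this
    rw [h6, pow_succ, ← hs]
    obtain ⟨k, hk⟩ := hodd
    exact Nat.mul_dvd_mul_left _ ⟨k, by omega⟩
  obtain ⟨b, rfl⟩ := hodd'
  have hmod : p ^ (2 * b + 1) + 1 ≡ 2 ^ s [MOD 2 ^ (s + 1)] := by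
    have h' : (p * p) ^ b * p + 1 ≡ p + 1 [MOD 2 ^ (s + 1)] := by
      simpa using ((hsq.pow b).mul_right p).add_right 1
    rwa [← pow_two, ← pow_mul, ← pow_succ, hs] at h'
  rw [← h] at hmod
  have hfs : f ≤ s := by
    by_contra hlt
    push Not at hlt
    have h7 : 2 ^ (s + 1) ∣ 2 ^ f := pow_dvd_pow 2 hlt
    have h8 : 2 ^ (s + 1) ∣ 2 ^ s := (hmod.dvd_iff dvd_rfl).1 h7
    have h9 := Nat.le_of_dvd (Nat.two_pow_pos s) h8
    rw [pow_succ] at h9
    have := Nat.two_pow_pos s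
    omega
  have h10 : p ^ (2 * b + 1) ≤ p := by
    have := Nat.pow_le_pow_right (show 0 < 2 by norm_num) hfs
    omega
  by_contra hne
  have h11 : p ^ 2 ≤ p ^ (2 * b + 1) := Nat.pow_le_pow_right hp.pos (by omega)
  have h12 : p * 4 ≤ p * p := Nat.mul_le_mul_left p (by omega)
  rw [pow_two] at h11
  have := hp.pos
  omega

variable {M : Subgroup G} {S : Sylow 2 G} {E : Subgroup G}

/-- An involution of `M`, central in a Sylow 2-subgroup of `M`, has `p`-power index in `M`. -/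
theorem Config.exists_involution_index (c : Config p M S E) :
    ∃ z ∈ M, orderOf z = 2 ∧ ∃ a, 1 ≤ a ∧ (centralizer ({z} : Set G)).relIndex M = p ^ a := by
  haveI := Fact.mk Nat.prime_two
  haveI := Fact.mk c.set.prime
  obtain ⟨T'⟩ : Nonempty (Sylow 2 M) := inferInstance
  set T := (T' : Subgroup M).map M.subtype
  have hTM : T ≤ M := Subgroup.map_subtype_le _
  have hT2 : IsPGroup 2 T := T'.2.map _
  obtain ⟨j, hj⟩ := IsPGroup.iff_card.1 hT2
  obtain ⟨K, hTK, hKM, hKp, k, hk⟩ := exists_hall (p := p) c.solM hTM (hj ▸ c.set.coprime_two_pow j)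
  have hTne : T ≠ ⊥ := fun e => by
    have h1 := T'.dvd_card_of_dvd_card (StronglyEmbedded.dvd_card_of c.emb)
    have hcT : Nat.card T = Nat.card (T' : Subgroup M) := Subgroup.card_map_of_injective M.subtype_injective
    rw [← hcT, e, Subgroup.card_bot] at h1
    omega
  obtain ⟨z, hzT, hz, hzc⟩ := exists_central_involution hT2 hTne
  haveI hnil := c.set.nil K hKp
  obtain ⟨TK', hTK'⟩ := (hT2.comap_of_injective K.subtype K.subtype_injective).exists_le_sylow (p := 2)
  have hcard : Nat.card ((TK' : Subgroup K).map K.subtype) ≤ Nat.card T := by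
    obtain ⟨TM, hTM'⟩ := ((TK'.2.map K.subtype).comap_of_injective M.subtype M.subtype_injective).exists_le_sylow (p := 2)
    have h2 : Nat.card ((TK' : Subgroup K).map K.subtype) ≤ Nat.card ((TM : Subgroup M).map M.subtype) :=
      Subgroup.card_le_of_le fun w hw => ⟨⟨w, hKM (Subgroup.map_subtype_le _ hw)⟩, hTM' hw, rfl⟩
    refine h2.trans (le_of_eq ?_)
    rw [Subgroup.card_map_of_injective M.subtype_injective, Subgroup.card_map_of_injective M.subtype_injective,
      Sylow.card_eq_multiplicity, Sylow.card_eq_multiplicity]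
  have hTK'' : (TK' : Subgroup K).map K.subtype = T :=
    (Subgroup.eq_of_le_of_card_ge (show T ≤ (TK' : Subgroup K).map K.subtype from fun t ht => ⟨⟨t, hTK ht⟩, hTK' ht, rfl⟩) hcard).symm
  haveI : (TK' : Subgroup K).Normal := TK'.normal_of_normalizerCondition Group.normalizerCondition_of_isNilpotent
  have hKC : K ≤ centralizer ({z} : Set G) := by
    intro w hw
    refine mem_centralizer_singleton_iff.2 ?_
    obtain ⟨i, o, ho, he⟩ := Nat.exists_eq_pow_mul_and_not_dvd (orderOf_pos w).ne' 2 (by norm_num)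
    have h1 : Commute (w ^ 2 ^ i) z := by
      refine comm_of_nilpotent hnil (K.pow_mem hw _) (hTK hzT) ?_
      rw [hz, orderOf_pow' w (pow_ne_zero i two_ne_zero), he, Nat.gcd_eq_right (Dvd.intro _ rfl),
        Nat.mul_div_cancel_left _ (Nat.two_pow_pos i)]
      exact ((Nat.Prime.coprime_iff_not_dvd Nat.prime_two).2 ho).symm
    have h2 : Commute (w ^ o) z := by
      refine hzc _ (hTK''.le ⟨⟨w ^ o, K.pow_mem hw _⟩, ?_, rfl⟩)
      have hp2 : IsPGroup 2 (zpowers (⟨w ^ o, K.pow_mem hw _⟩ : K)) := by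
        refine IsPGroup.of_card_dvd_pow (n := i) ?_
        rw [Nat.card_zpowers, Subgroup.orderOf_mk]
        refine orderOf_dvd_of_pow_eq_one ?_
        rw [← pow_mul, mul_comm, ← he, pow_orderOf_eq_one]
      obtain ⟨Q, hQ⟩ := hp2.exists_le_sylow
      haveI := TK'.unique_of_normal inferInstance
      rw [Subsingleton.elim TK' Q]
      exact hQ (mem_zpowers _)
    have hco : (2 ^ i).Coprime o := ((Nat.Prime.coprime_iff_not_dvd Nat.prime_two).2 ho).pow_left i
    have key : w = (w ^ 2 ^ i) ^ (Nat.gcdA (2 ^ i) o) * (w ^ o) ^ (Nat.gcdB (2 ^ i) o) := by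
      have hb := Nat.gcd_eq_gcd_ab (2 ^ i) o
      rw [hco.gcd_eq_one] at hb
      rw [← zpow_natCast w (2 ^ i), ← zpow_natCast w o, ← zpow_mul, ← zpow_mul, ← zpow_add, ← hb]
      simp
    rw [key]
    exact ((h1.zpow_left _).mul_left (h2.zpow_left _)).eq
  refine ⟨z, hTM hzT, hz, ?_⟩
  set C := centralizer ({z} : Set G)
  have hdvd : C.relIndex M ∣ p ^ k := by
    have h1 : K.relIndex M = p ^ k := by
      have h2 := Subgroup.index_mul_card (K.subgroupOf M)
      rw [Nat.card_congr (subgroupOfEquivOfLe hKM).toEquiv, hk, mul_comm (Nat.card K)] at h2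
      exact Nat.eq_of_mul_eq_mul_right Nat.card_pos h2
    exact h1 ▸ Subgroup.relIndex_dvd_of_le_left _ hKC
  obtain ⟨a, -, ha⟩ := (Nat.dvd_prime_pow c.set.prime).1 hdvd
  refine ⟨a, Nat.pos_of_ne_zero fun e => ?_, ha⟩
  rw [e, pow_zero, Subgroup.relIndex_eq_one] at ha
  obtain ⟨V, hVC, hV, hV4⟩ := c.exists_four_centralizer hz
  obtain ⟨v, hv, hvz⟩ : ∃ v ∈ V, v ≠ 1 ∧ v ≠ z := by
    by_contra h
    push Not at h
    have h1 : V ≤ zpowers z := fun v hv => by
      by_cases h1 : v = 1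
      · rw [h1]; exact one_mem _
      · rw [h v hv h1]; exact mem_zpowers z
    have h2 := Subgroup.card_le_of_le h1
    rw [Nat.card_zpowers, hz] at h2
    omega
  obtain ⟨g, hg, hge⟩ := c.transitive hz (hTM hzT) (Signalizer.orderOf_eq_prime_of_ea hV hv hvz.1)
    (c.centralizer_le_M hz (hTM hzT) (hVC hv))
  refine hvz.2 ?_
  rw [← hge, mem_centralizer_singleton_iff.1 (ha hg), mul_inv_cancel_right]

/-- A normal 2-subgroup of `M` is impossible. -/
theorem Config.false_of_pCore (c : Config p M S E) (hcore : pCore 2 M ≠ ⊥) : False := by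
  classical
  haveI := Fact.mk Nat.prime_two
  haveI := Fact.mk c.set.prime
  obtain ⟨z, hzM, hz, a, ha1, ha⟩ := c.exists_involution_index
  set T := (pCore 2 M).map M.subtype
  have hT2 : IsPGroup 2 T := (CfsgLib.isPGroup_pCore 2).map _
  have hT1 : T ≠ ⊥ := fun e => hcore ((Subgroup.map_eq_bot_iff_of_injective _ M.subtype_injective).1 e)
  set F := StrongEmbedS4.zS T
  have hFea : IsElementaryAbelian 2 F :=
    CfsgLib.SolvSF.ea_of_comm (StrongEmbedS4.ea_zS T).comm (StrongEmbedS4.ea_zS T).pow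
  have hMF : M ≤ normalizer (F : Set G) := by
    refine le_trans ?_ (StrongEmbedS4.normalizer_le_zS T)
    intro g hg
    refine CfsgLib.Comp.mem_normalizer_of_maps ?_
    rintro _ ⟨w, hw, rfl⟩
    exact ⟨⟨g, hg⟩ * w * ⟨g, hg⟩⁻¹, (inferInstance : (pCore 2 M).Normal).conj_mem w hw _, rfl⟩
  have hFM : F ≤ M := (StrongEmbedS4.zS_le T).trans (Subgroup.map_subtype_le _)
  -- `F` holds all involutions of `M`
  have hmemF : ∀ t ∈ M, orderOf t = 2 → t ∈ F := by
    intro t htM ht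
    obtain ⟨⟨f, hf⟩, hf1⟩ := Subgroup.ne_bot_iff_exists_ne_one.1 (StrongEmbedS4.zS_ne_bot hT2 hT1)
    have hfo : orderOf f = 2 := Signalizer.orderOf_eq_prime_of_ea hFea hf fun e => hf1 (Subtype.ext e)
    obtain ⟨g, hg, rfl⟩ := c.transitive hfo (hFM hf) ht htM
    exact (mem_normalizer_iff.1 (hMF hg) f).1 hf
  have hzF : z ∈ F := hmemF z hzM hz
  have hinvM : ∀ t : G, (t ∈ M ∧ orderOf t = 2) ↔ ∃ g ∈ M, g * z * g⁻¹ = t := fun t =>
    ⟨fun h => c.transitive hz hzM h.2 h.1, by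
      rintro ⟨g, hg, rfl⟩
      exact ⟨mul_mem (mul_mem hg hzM) (inv_mem hg), by rw [ZStar.orderOf_conj, hz]⟩⟩
  have hcardM : Nat.card {t : G // t ∈ M ∧ orderOf t = 2} = p ^ a := by
    rw [Nat.card_congr (Equiv.subtypeEquivRight hinvM), card_conjugates, ha]
  have hFcard : Nat.card F = p ^ a + 1 := by
    rw [← hcardM, ← Finite.card_option]
    let ψ : Option {t : G // t ∈ M ∧ orderOf t = 2} → F := fun o => o.elim 1 fun t => ⟨t, hmemF t t.2.1 t.2.2⟩
    refine (Nat.card_eq_of_bijective ψ ⟨?_, ?_⟩).symm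
    · rintro (_ | x) (_ | y) hxy
      · rfl
      · exact absurd (congrArg Subtype.val hxy).symm (ne_one_of_involution y.2.2)
      · exact absurd (congrArg Subtype.val hxy) (ne_one_of_involution x.2.2)
      · exact congrArg some (Subtype.ext (congrArg (fun w : F => (w : G)) hxy :))
    · intro w
      by_cases hw : w = 1
      · exact ⟨none, hw.symm⟩
      · exact ⟨some ⟨w, hFM w.2, Signalizer.orderOf_eq_prime_of_ea hFea w.2 fun e => hw (Subtype.ext e)⟩, rfl⟩
  obtain ⟨f, hf⟩ := IsPGroup.iff_card.1 (Signalizer.isPGroup_ea hFea)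
  have ha' : a = 1 := two_pow_eq_prime_pow_add_one c.set.prime c.set.three_lt ha1 (hf.symm.trans hFcard)
  subst ha'
  rw [pow_one] at hFcard hcardM
  have hF4 : 4 ≤ Nat.card F := by have := c.set.three_lt; omega
  -- `p`-elements of `C(z)` centralize `F`
  have hcentF : ∀ d ∈ centralizer ({z} : Set G), (∃ k, orderOf d = p ^ k) → d ∈ centralizer (F : Set G) := by
    rintro d hd ⟨k, hk⟩
    have hdN : d ∈ normalizer (F : Set G) := hMF (c.centralizer_le_M hz hzM hd)
    set θ : MulAut F := F.normalizerMonoidHom ⟨d, hdN⟩ with hθ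
    have hθv : ∀ v : F, ((θ v : F) : G) = d * v * d⁻¹ := fun v => rfl
    have hP : IsPGroup p (zpowers θ) := by
      refine IsPGroup.of_card_dvd_pow (n := k) ?_
      rw [Nat.card_zpowers]
      refine (orderOf_map_dvd _ _).trans ?_
      rw [Subgroup.orderOf_mk, hk]
    set W : Subgroup F := MonoidHom.eqLocus θ.toMonoidHom (MonoidHom.id F)
    have hmod := hP.card_modEq_card_fixedPoints F
    have hfix : Nat.card (MulAction.fixedPoints (zpowers θ) F) = Nat.card W := by
      refine Nat.card_congr ⟨fun v => ⟨v.1, v.2 ⟨θ, mem_zpowers θ⟩⟩, fun v => ⟨v.1, fun g => ?_⟩, fun v => rfl,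
        fun v => rfl⟩
      have h1 : zpowers θ ≤ MulAction.stabilizer (MulAut F) (v.1 : F) := by
        rw [zpowers_le, MulAction.mem_stabilizer_iff]
        exact v.2
      exact h1 g.2
    rw [hfix, hFcard] at hmod
    have hzW : (⟨z, hzF⟩ : F) ∈ W := Subtype.ext (by
      show d * z * d⁻¹ = z
      rw [mem_centralizer_singleton_iff.1 hd, mul_inv_cancel_right])
    have hW2 : 2 ≤ Nat.card W := by
      haveI : Nontrivial W := ⟨⟨⟨z, hzF⟩, hzW⟩, 1, fun e =>
        ne_one_of_involution hz (congrArg (fun w : W => ((w : F) : G)) e)⟩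
      exact Finite.one_lt_card
    have hWle : Nat.card W ≤ p + 1 := hFcard ▸ Subgroup.card_le_card_group W
    have hWtop : W = ⊤ := by
      refine Subgroup.eq_top_of_card_eq W ?_
      rw [hFcard]
      by_contra hne
      have h1 : (Nat.card W) % p = 1 := by
        rw [← hmod, Nat.add_mod_left, Nat.one_mod_eq_one.2 c.set.prime.ne_one]
      rcases Nat.lt_or_ge (Nat.card W) p with h2 | h2
      · rw [Nat.mod_eq_of_lt h2] at h1; omega
      · have h3 : Nat.card W = p := by omega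
        rw [h3, Nat.mod_self] at h1
        omega
    intro v hv
    have hmem : (⟨v, hv⟩ : F) ∈ W := by rw [hWtop]; exact mem_top _
    have h2 : d * v * d⁻¹ = v := congrArg Subtype.val (show θ ⟨v, hv⟩ = ⟨v, hv⟩ from hmem)
    exact (mul_inv_eq_iff_eq_mul.1 h2).symm
  -- an element of `M` inverted by `z` is trivial when its order is odd
  have hMinv : ∀ r ∈ M, z * r * z⁻¹ = r⁻¹ → Odd (orderOf r) → r = 1 := by
    intro r hr hri hodd
    have h2 : r * z * r⁻¹ ∈ F := (mem_normalizer_iff.1 (hMF hr) z).1 hzF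
    have h1 : z * (r * z⁻¹ * r⁻¹) ∈ F := mul_mem hzF (by rwa [inv_of_involution hz])
    rw [show z * (r * z⁻¹ * r⁻¹) = (z * r * z⁻¹) * r⁻¹ by group, hri] at h1
    have h3 : (r⁻¹ * r⁻¹) ^ 2 = 1 := hFea.2 _ h1
    have h4 : (r⁻¹) ^ 4 = 1 := by rw [← h3]; group
    rw [inv_pow, inv_eq_one, ← orderOf_dvd_iff_pow_eq_one] at h4
    exact orderOf_eq_one_iff.1 (Nat.eq_one_of_dvd_coprimes ((Nat.coprime_two_right.2 hodd).pow_right 2)
      dvd_rfl (by simpa using h4))
  -- the centralizers of the products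
  have hprod : ∀ u, orderOf u = 2 → u ∉ M →
      (∀ r ∈ centralizer ({z * u} : Set G), z * r * z⁻¹ = r⁻¹) ∧
      ∀ r ∈ centralizer ({z * u} : Set G), ∀ s ∈ centralizer ({z * u} : Set G), r * s = s * r := by
    intro u hu huM
    obtain ⟨hxM, ⟨kx, hkx⟩, hx1, hodd, hRp, hnorm⟩ := c.prod_facts hz hzM hu huM
    have hinv : ∀ r ∈ centralizer ({z * u} : Set G), z * r * z⁻¹ = r⁻¹ := by
      refine CharTwoEarly.inverts hodd (sq_of_involution hz) hnorm ?_
      intro d hd hdz
      by_contra hd1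
      obtain ⟨k, hk⟩ := IsPGroup.iff_orderOf.1 hRp ⟨d, hd⟩
      rw [Subgroup.orderOf_mk] at hk
      have hdF := hcentF d (mem_centralizer_singleton_iff.2 hdz) ⟨k, hk⟩
      have hle := c.le_of_four (c.set.centralizer_ne_top hd1) (V := F)
        (fun v hv => mem_centralizer_singleton_iff.2 (hdF v hv)) hFM hFea hF4
      exact hxM (hle (mem_centralizer_singleton_iff.2 (mem_centralizer_singleton_iff.1 hd).symm))
    refine ⟨hinv, fun r hr s hs => ?_⟩
    have h1 := hinv _ (mul_mem hr hs)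
    have h2 : z * (r * s) * z⁻¹ = r⁻¹ * s⁻¹ := by
      calc z * (r * s) * z⁻¹ = (z * r * z⁻¹) * (z * s * z⁻¹) := by group
        _ = r⁻¹ * s⁻¹ := by rw [hinv r hr, hinv s hs]
    rw [h2, mul_inv_rev] at h1
    calc r * s = (s⁻¹ * r⁻¹)⁻¹ := by group
      _ = (r⁻¹ * s⁻¹)⁻¹ := by rw [h1]
      _ = s * r := by group
  -- they are the self-centralizing Sylow subgroups
  have hsyl : ∀ u, orderOf u = 2 → u ∉ M → ∃ P : Sylow p G, (P : Subgroup G) = centralizer ({z * u} : Set G) ∧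
      (∀ r ∈ (P : Subgroup G), r ≠ 1 → centralizer ({r} : Set G) = (P : Subgroup G)) := by
    intro u hu huM
    obtain ⟨hxM, ⟨kx, hkx⟩, hx1, hodd, hRp, hnorm⟩ := c.prod_facts hz hzM hu huM
    obtain ⟨hinv, hcomm⟩ := hprod u hu huM
    set R := centralizer ({z * u} : Set G)
    have hxR : z * u ∈ R := mem_centralizer_singleton_iff.2 rfl
    have hCr : ∀ r ∈ R, r ≠ 1 → centralizer ({r} : Set G) = R := by
      intro r hr hr1
      refine le_antisymm ?_ fun s hs => mem_centralizer_singleton_iff.2 (hcomm s hs r hr)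
      have hro : Odd (orderOf r) := hodd.of_dvd_nat (Subgroup.orderOf_dvd_natCard R hr)
      have hrM : r ∉ M := fun h => hr1 (hMinv r h (hinv r hr) hro)
      have hzz := sq_of_involution hz
      have hu' : orderOf (z * r) = 2 := by
        refine orderOf_eq_prime ?_ fun e => hrM ?_
        · calc (z * r) ^ 2 = (z * r * z⁻¹) * (z * z) * r := by rw [pow_two]; group
            _ = 1 := by rw [hinv r hr, hzz, mul_one, inv_mul_cancel]
        · rw [eq_inv_of_mul_eq_one_right e, inv_of_involution hz]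
          exact hzM
      have hu'M : z * r ∉ M := fun h => hrM (by simpa [← mul_assoc, hzz] using mul_mem hzM h)
      have hcomm' := (hprod _ hu' hu'M).2
      rw [show z * (z * r) = r by rw [← mul_assoc, hzz, one_mul]] at hcomm'
      intro s hs
      exact mem_centralizer_singleton_iff.2
        (hcomm' s hs (z * u) (mem_centralizer_singleton_iff.2 (hcomm (z * u) hxR r hr)))
    obtain ⟨P, hP⟩ := hRp.exists_le_sylow
    suffices hPR : (P : Subgroup G) = R by exact ⟨P, hPR, fun r hr hr1 => by rw [hPR] at hr ⊢; exact hCr r hr hr1⟩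
    refine le_antisymm ?_ hP
    haveI : Nontrivial (P : Subgroup G) := ⟨⟨z * u, hP hxR⟩, 1, fun e => hx1 (congrArg Subtype.val e)⟩
    haveI := P.2.center_nontrivial
    obtain ⟨⟨⟨w, hwP⟩, hwc⟩, hw1⟩ := exists_ne (1 : Subgroup.center (P : Subgroup G))
    have hwcomm : ∀ v ∈ (P : Subgroup G), v * w = w * v := fun v hv =>
      congrArg Subtype.val (Subgroup.mem_center_iff.1 hwc ⟨v, hv⟩)
    have hwR : w ∈ R := mem_centralizer_singleton_iff.2 (hwcomm _ (hP hxR)).symm
    intro v hv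
    rw [← hCr w hwR fun e => hw1 (Subtype.ext (Subtype.ext e))]
    exact mem_centralizer_singleton_iff.2 (hwcomm v hv)
  -- counting
  obtain ⟨u₀, hu₀, hu₀M⟩ := c.exists_outside
  obtain ⟨P₀, hP₀, hP₀c⟩ := hsyl u₀ hu₀ hu₀M
  have hinvP₀ : ∀ r ∈ (P₀ : Subgroup G), z * r * z⁻¹ = r⁻¹ := fun r hr => (hprod u₀ hu₀ hu₀M).1 r (hP₀.le hr)
  have hx₀ : z * u₀ ∈ (P₀ : Subgroup G) := hP₀.ge (mem_centralizer_singleton_iff.2 rfl)
  have hx₀1 : z * u₀ ≠ 1 := (c.prod_facts hz hzM hu₀ hu₀M).2.2.1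
  have hP₀p : p ∣ Nat.card (P₀ : Subgroup G) := by
    obtain ⟨k, hk⟩ := IsPGroup.iff_orderOf.1 P₀.2 ⟨_, hx₀⟩
    have h1 : orderOf (⟨z * u₀, hx₀⟩ : (P₀ : Subgroup G)) ≠ 1 := fun e =>
      hx₀1 (congrArg Subtype.val (orderOf_eq_one_iff.1 e))
    rcases k with _ | k
    · exact absurd (hk.trans (pow_zero p)) h1
    exact (dvd_pow_self p k.succ_ne_zero).trans (hk ▸ orderOf_dvd_natCard _)
  have hP₀odd : Odd (Nat.card (P₀ : Subgroup G)) := by
    rw [hP₀]; exact (c.prod_facts hz hzM hu₀ hu₀M).2.2.2.1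
  -- no `p`-element centralizes an involution
  have hpC : ¬ p ∣ Nat.card (centralizer ({z} : Set G)) := by
    intro h
    obtain ⟨⟨d, hd⟩, hdo⟩ := exists_prime_orderOf_dvd_card' p h
    rw [Subgroup.orderOf_mk] at hdo
    obtain ⟨Q, hQ⟩ := (StronglyEmbedded.isPGroup_zpowers hdo).exists_le_sylow
    obtain ⟨g, hg⟩ := MulAction.exists_smul_eq G Q P₀
    have hgd : g * d * g⁻¹ ∈ (P₀ : Subgroup G) := by rw [← hg]; exact ⟨d, hQ (mem_zpowers d), rfl⟩
    have hgd1 : g * d * g⁻¹ ≠ 1 := fun e => by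
      rw [conj_eq_one_iff.1 e, orderOf_one] at hdo
      exact c.set.prime.ne_one hdo.symm
    have hgz : g * z * g⁻¹ ∈ (P₀ : Subgroup G) := by
      rw [← hP₀c _ hgd hgd1, mem_centralizer_singleton_iff]
      calc g * z * g⁻¹ * (g * d * g⁻¹) = g * (z * d) * g⁻¹ := by group
        _ = g * (d * z) * g⁻¹ := by rw [mem_centralizer_singleton_iff.1 hd]
        _ = g * d * g⁻¹ * (g * z * g⁻¹) := by group
    have h2 := Subgroup.orderOf_dvd_natCard (P₀ : Subgroup G) hgz
    rw [ZStar.orderOf_conj, hz] at h2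
    exact Nat.not_even_iff_odd.2 hP₀odd (even_iff_two_dvd.2 h2)
  -- all involutions are conjugate
  have hall : ∀ t : G, orderOf t = 2 → ∃ g, g * z * g⁻¹ = t := by
    intro t ht
    by_cases htM : t ∈ M
    · obtain ⟨g, -, hg⟩ := c.transitive hz hzM ht htM; exact ⟨g, hg⟩
    · obtain ⟨d, -, hd⟩ := CfsgLib.Involutions.exists_conj_eq_of_odd (sq_of_involution hz) (sq_of_involution ht)
        (c.odd_prod hz hzM ht htM)
      exact ⟨d, hd⟩
  set n := Nat.card {t : G // orderOf t = 2}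
  have hn : n * Nat.card (centralizer ({z} : Set G)) = Nat.card G := by
    rw [show n = Nat.card {t : G // ∃ g ∈ (⊤ : Subgroup G), g * z * g⁻¹ = t} from
      Nat.card_congr (Equiv.subtypeEquivRight fun t => ⟨fun ht => (hall t ht).imp fun g hg => ⟨mem_top g, hg⟩, by
        rintro ⟨g, -, rfl⟩; rw [ZStar.orderOf_conj, hz]⟩),
      card_conjugates, Subgroup.relIndex_top_right, Subgroup.index_mul_card]
  set q := Nat.card (P₀ : Subgroup G) with hq
  have hqn : q ∣ n := by
    have h1 : q ∣ n * Nat.card (centralizer ({z} : Set G)) := hn ▸ Subgroup.card_subgroup_dvd_card _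
    obtain ⟨k, hk⟩ := IsPGroup.iff_card.1 P₀.2
    exact Nat.Coprime.dvd_of_dvd_mul_right (hq.trans hk ▸ ((c.set.prime.coprime_iff_not_dvd.2 hpC).pow_left k)) h1
  have hsylc : ∀ (P : Sylow p G), ∀ r ∈ (P : Subgroup G), r ≠ 1 → centralizer ({r} : Set G) = (P : Subgroup G) := by
    intro P r hr hr1
    obtain ⟨g, hg⟩ := MulAction.exists_smul_eq G P P₀
    have hgr : g * r * g⁻¹ ∈ (P₀ : Subgroup G) := by rw [← hg]; exact ⟨r, hr, rfl⟩
    have h1 := hP₀c _ hgr fun e => hr1 (conj_eq_one_iff.1 e)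
    ext s
    constructor
    · intro hs
      have h2 : g * s * g⁻¹ ∈ (P₀ : Subgroup G) := by
        rw [← h1, mem_centralizer_singleton_iff]
        calc g * s * g⁻¹ * (g * r * g⁻¹) = g * (s * r) * g⁻¹ := by group
          _ = g * (r * s) * g⁻¹ := by rw [mem_centralizer_singleton_iff.1 hs]
          _ = g * r * g⁻¹ * (g * s * g⁻¹) := by group
      rw [← hg] at h2
      obtain ⟨s', hs', he⟩ := h2
      rw [← mul_left_cancel (mul_right_cancel (he : g * s' * g⁻¹ = g * s * g⁻¹))]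
      exact hs'
    · intro hs
      have h2 : g * s * g⁻¹ ∈ centralizer ({g * r * g⁻¹} : Set G) := by
        rw [h1, ← hg]; exact ⟨s, hs, rfl⟩
      have h3 := mem_centralizer_singleton_iff.1 h2
      refine mem_centralizer_singleton_iff.2 ?_
      calc s * r = g⁻¹ * (g * s * g⁻¹ * (g * r * g⁻¹)) * g := by group
        _ = g⁻¹ * (g * r * g⁻¹ * (g * s * g⁻¹)) * g := by rw [h3]
        _ = r * s := by group
  have hPcard : ∀ P : Sylow p G, Nat.card (P : Subgroup G) = q := fun P => by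
    rw [hq, P.card_eq_multiplicity, P₀.card_eq_multiplicity]
  let Inv (P : Sylow p G) (t : G) : Prop := orderOf t = 2 ∧ ∀ r ∈ (P : Subgroup G), t * r * t⁻¹ = r⁻¹
  -- inverting involutions of one Sylow subgroup
  have hJ : ∀ P : Sylow p G, Nat.card {t : G // Inv P t} = q := by
    intro P
    obtain ⟨g, hg⟩ := MulAction.exists_smul_eq G P₀ P
    have ht₀ : Inv P (g * z * g⁻¹) := by
      refine ⟨by rw [ZStar.orderOf_conj, hz], fun r hr => ?_⟩
      rw [← hg] at hr
      obtain ⟨r', hr', rfl⟩ := hr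
      show g * z * g⁻¹ * (g * r' * g⁻¹) * (g * z * g⁻¹)⁻¹ = (g * r' * g⁻¹)⁻¹
      calc g * z * g⁻¹ * (g * r' * g⁻¹) * (g * z * g⁻¹)⁻¹ = g * (z * r' * z⁻¹) * g⁻¹ := by group
        _ = g * r'⁻¹ * g⁻¹ := by rw [hinvP₀ r' hr']
        _ = (g * r' * g⁻¹)⁻¹ := by group
    set t₀ := g * z * g⁻¹
    have htt := sq_of_involution ht₀.1
    have hodd : Odd (Nat.card (P : Subgroup G)) := by rw [hPcard]; exact hP₀odd
    have hab : ∀ r ∈ (P : Subgroup G), ∀ s ∈ (P : Subgroup G), r * s = s * r := by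
      intro r hr s hs
      by_cases hr1 : r = 1
      · simp [hr1]
      exact (mem_centralizer_singleton_iff.1 ((hsylc P r hr hr1).ge hs)).symm
    let φ : ↥(P : Subgroup G) → {t : G // Inv P t} := fun r => ⟨t₀ * r, by
      refine ⟨orderOf_eq_prime ?_ fun e => ?_, fun s hs => ?_⟩
      · calc (t₀ * r) ^ 2 = (t₀ * r * t₀⁻¹) * (t₀ * t₀) * r := by rw [pow_two]; group
          _ = 1 := by rw [ht₀.2 _ r.2, htt, mul_one, inv_mul_cancel]
      · have h1 : t₀ ∈ (P : Subgroup G) := by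
          rw [eq_inv_of_mul_eq_one_left e]; exact inv_mem r.2
        have h2 := Subgroup.orderOf_dvd_natCard (P : Subgroup G) h1
        rw [ht₀.1] at h2
        exact Nat.not_even_iff_odd.2 hodd (even_iff_two_dvd.2 h2)
      · calc t₀ * r * s * (t₀ * r)⁻¹ = t₀ * ((r : G) * s * (r : G)⁻¹) * t₀⁻¹ := by group
          _ = t₀ * s * t₀⁻¹ := by rw [hab _ r.2 s hs, mul_inv_cancel_right]
          _ = s⁻¹ := ht₀.2 s hs⟩
    rw [← hPcard P]
    refine (Nat.card_eq_of_bijective φ ⟨fun a b hab' => Subtype.ext (mul_left_cancel (congrArg Subtype.val hab' :)), ?_⟩).symm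
    rintro ⟨t, ht, hti⟩
    haveI : Nontrivial (P : Subgroup G) := Finite.one_lt_card_iff_nontrivial.1 (by
      rw [hPcard]; exact lt_of_lt_of_le c.set.prime.one_lt (Nat.le_of_dvd Nat.card_pos hP₀p))
    obtain ⟨r, hr⟩ := exists_ne (1 : (P : Subgroup G))
    have hmem : t₀⁻¹ * t ∈ (P : Subgroup G) := by
      rw [← hsylc P r r.2 fun e => hr (Subtype.ext e), mem_centralizer_singleton_iff]
      have h1 := hti _ r.2
      have h2 := ht₀.2 _ r.2
      calc t₀⁻¹ * t * r = t₀⁻¹ * (t * r * t⁻¹) * t := by group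
        _ = t₀⁻¹ * (t₀ * r * t₀⁻¹) * t := by rw [h1, h2]
        _ = r * (t₀⁻¹ * t) := by group
    exact ⟨⟨_, hmem⟩, Subtype.ext (mul_inv_cancel_left t₀ t)⟩
  set Nz := Nat.card {P : Sylow p G // ∀ r ∈ (P : Subgroup G), z * r * z⁻¹ = r⁻¹}
  have hNt : ∀ t : {t : G // orderOf t = 2},
      Nat.card {P : Sylow p G // ∀ r ∈ (P : Subgroup G), (t : G) * r * (t : G)⁻¹ = r⁻¹} = Nz := by
    rintro ⟨t, ht⟩
    obtain ⟨g, rfl⟩ := hall t ht
    refine (Nat.card_congr (Equiv.subtypeEquiv (MulAction.toPerm g) fun P => ?_)).symm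
    show _ ↔ ∀ r ∈ ((g • P : Sylow p G) : Subgroup G), g * z * g⁻¹ * r * (g * z * g⁻¹)⁻¹ = r⁻¹
    constructor
    · intro h r hr
      obtain ⟨r', hr', rfl⟩ := hr
      show g * z * g⁻¹ * (g * r' * g⁻¹) * (g * z * g⁻¹)⁻¹ = (g * r' * g⁻¹)⁻¹
      calc g * z * g⁻¹ * (g * r' * g⁻¹) * (g * z * g⁻¹)⁻¹ = g * (z * r' * z⁻¹) * g⁻¹ := by group
        _ = g * r'⁻¹ * g⁻¹ := by rw [h r' hr']
        _ = (g * r' * g⁻¹)⁻¹ := by group
    · intro h r hr
      have h1 := h (g * r * g⁻¹) ⟨r, hr, rfl⟩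
      calc z * r * z⁻¹ = g⁻¹ * (g * z * g⁻¹ * (g * r * g⁻¹) * (g * z * g⁻¹)⁻¹) * g := by group
        _ = g⁻¹ * (g * r * g⁻¹)⁻¹ * g := by rw [h1]
        _ = r⁻¹ := by group
  have hdouble : Nat.card (Sylow p G) * q = n * Nz := by
    let e : (Σ P : Sylow p G, {t : G // Inv P t}) ≃
        Σ t : {t : G // orderOf t = 2}, {P : Sylow p G // ∀ r ∈ (P : Subgroup G), (t : G) * r * (t : G)⁻¹ = r⁻¹} :=
      { toFun := fun x => ⟨⟨x.2.1, x.2.2.1⟩, ⟨x.1, x.2.2.2⟩⟩
        invFun := fun x => ⟨x.2.1, ⟨x.1.1, x.1.2, x.2.2⟩⟩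
        left_inv := fun x => rfl
        right_inv := fun x => rfl }
    have h1 := Nat.card_congr e
    letI := Fintype.ofFinite (Sylow p G)
    letI := Fintype.ofFinite {t : G // orderOf t = 2}
    rw [Nat.card_sigma, Nat.card_sigma, Finset.sum_congr rfl (fun P _ => hJ P),
      Finset.sum_congr rfl (fun t _ => hNt t)] at h1
    rw [show n = Fintype.card {t : G // orderOf t = 2} from Nat.card_eq_fintype_card]
    simpa [Nat.card_eq_fintype_card] using h1
  have hNz : ¬ p ∣ Nz := by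
    intro h
    have h1 : q * p ∣ Nat.card (Sylow p G) * q := hdouble ▸ Nat.mul_dvd_mul hqn h
    rw [mul_comm q p] at h1
    have h2 := card_sylow_modEq_one p G
    have h3 : p ∣ Nat.card (Sylow p G) := Nat.dvd_of_mul_dvd_mul_right (show 0 < q from Nat.card_pos) h1
    rw [Nat.ModEq, Nat.mod_eq_zero_of_dvd h3, Nat.one_mod_eq_one.2 c.set.prime.ne_one] at h2
    exact zero_ne_one h2
  -- the involutions outside `M`
  set U := Nat.card {t : G // orderOf t = 2 ∧ t ∉ M}
  have hnU : n = U + p := by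
    rw [← hcardM, ← Nat.card_sum]
    let e : {t : G // orderOf t = 2} → {t : G // orderOf t = 2 ∧ t ∉ M} ⊕ {t : G // t ∈ M ∧ orderOf t = 2} :=
      fun t => if h : (t : G) ∈ M then Sum.inr ⟨t, h, t.2⟩ else Sum.inl ⟨t, t.2, h⟩
    refine Nat.card_eq_of_bijective e ⟨?_, ?_⟩
    · intro t s hts
      simp only [e] at hts
      split_ifs at hts
      all_goals first
        | exact Subtype.ext (congrArg Subtype.val (Sum.inr.inj hts) :)
        | exact Subtype.ext (congrArg Subtype.val (Sum.inl.inj hts) :)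
    · rintro (⟨t, ht, htM⟩ | ⟨t, htM, ht⟩)
      · exact ⟨⟨t, ht⟩, dif_neg htM⟩
      · exact ⟨⟨t, ht⟩, dif_pos htM⟩
  have hUcard : U = Nz * (q - 1) := by
    letI := Fintype.ofFinite {P : Sylow p G // ∀ r ∈ (P : Subgroup G), z * r * z⁻¹ = r⁻¹}
    have h1 : ∀ P : {P : Sylow p G // ∀ r ∈ (P : Subgroup G), z * r * z⁻¹ = r⁻¹},
        Nat.card {r : (P.1 : Subgroup G) // r ≠ 1} = q - 1 := by
      intro P
      letI := Fintype.ofFinite (P.1 : Subgroup G)
      rw [Nat.card_eq_fintype_card, Fintype.card_subtype_compl, Fintype.card_subtype_eq, ← Nat.card_eq_fintype_card,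
        hPcard]
    have h2 : Nat.card (Σ P : {P : Sylow p G // ∀ r ∈ (P : Subgroup G), z * r * z⁻¹ = r⁻¹},
        {r : (P.1 : Subgroup G) // r ≠ 1}) = Nz * (q - 1) := by
      rw [Nat.card_sigma, Finset.sum_congr rfl (fun P _ => h1 P)]
      simp [Nz, Nat.card_eq_fintype_card]
    rw [← h2]
    refine (Nat.card_eq_of_bijective (fun x => (⟨z * (x.2.1 : G), ?_, ?_⟩ : {t : G // orderOf t = 2 ∧ t ∉ M}))
      ⟨?_, ?_⟩).symm
    · refine orderOf_eq_prime ?_ fun e => ?_
      · calc (z * (x.2.1 : G)) ^ 2 = (z * (x.2.1 : G) * z⁻¹) * (z * z) * (x.2.1 : G) := by rw [pow_two]; group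
          _ = 1 := by rw [x.1.2 _ x.2.1.2, sq_of_involution hz, mul_one, inv_mul_cancel]
      · have h3 : z ∈ (x.1.1 : Subgroup G) := by
          have := inv_mem x.2.1.2
          rwa [← eq_inv_of_mul_eq_one_left e] at this
        have h4 := Subgroup.orderOf_dvd_natCard (x.1.1 : Subgroup G) h3
        rw [hz, hPcard] at h4
        exact Nat.not_even_iff_odd.2 hP₀odd (even_iff_two_dvd.2 h4)
    · intro h
      have h3 : (x.2.1 : G) ∈ M := by simpa [← mul_assoc, sq_of_involution hz] using mul_mem hzM h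
      refine x.2.2 (Subtype.ext (hMinv _ h3 (x.1.2 _ x.2.1.2) ?_))
      exact Odd.of_dvd_nat (hP₀odd) (hPcard x.1.1 ▸ Subgroup.orderOf_dvd_natCard _ x.2.1.2)
    · rintro ⟨⟨P, hP⟩, ⟨⟨r, hr⟩, hr1⟩⟩ ⟨⟨P', hP'⟩, ⟨⟨r', hr'⟩, hr1'⟩⟩ he
      have h3 : r = r' := mul_left_cancel (congrArg Subtype.val he :)
      subst h3
      have h4 : P = P' := Sylow.ext ((hsylc P r hr fun e => hr1 (Subtype.ext e)).symm.trans
        (hsylc P' r hr' fun e => hr1' (Subtype.ext e)))
      subst h4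
      rfl
    · rintro ⟨u, hu, huM⟩
      obtain ⟨P, hP, -⟩ := hsyl u hu huM
      refine ⟨⟨⟨P, fun r hr => (hprod u hu huM).1 r (hP.le hr)⟩, ⟨⟨z * u, hP.ge (mem_centralizer_singleton_iff.2 rfl)⟩,
        fun e => (c.prod_facts hz hzM hu huM).2.2.1 (congrArg Subtype.val e)⟩⟩, Subtype.ext ?_⟩
      show z * (z * u) = u
      rw [← mul_assoc, sq_of_involution hz, one_mul]
  have hpU : p ∣ U := (Nat.dvd_add_left dvd_rfl).1 (hnU ▸ hP₀p.trans hqn)
  rw [hUcard] at hpU
  rcases c.set.prime.dvd_mul.1 hpU with h | h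
  · exact hNz h
  · have h5 : p ∣ q := hP₀p
    have h6 := Nat.dvd_sub h5 h
    rw [Nat.sub_sub_self (show 1 ≤ q from Nat.card_pos)] at h6
    exact c.set.prime.ne_one (Nat.dvd_one.1 h6)

end CfsgLib.PNilHall
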