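import Cfsg.Agent.Lib.PNilHall.Basic
import Cfsg.Agent.Lib.TwoLocalSignalizer.Main
import Cfsg.Agent.Lib.StrongEmbedS4.Main
import Cfsg.Agent.Lib.S3Free.Fusion
import Cfsg.Agent.Lib.ZStar.Main
import Cfsg.Agent.Lib.StronglyEmbedded
import Cfsg.Agent.Lib.PairSol.Basic
import Cfsg.Agent.Lib.OddOrder.FeitThompson

/-!
The minimal counterexample has 2-rank at least three and a strongly embedded subgroup.
-/

set_option autoImplicit false
set_option maxHeartbeats 800000
set_option linter.unusedSectionVars false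
set_option linter.style.haveILetI false

namespace CfsgLib.PNilHall

open Subgroup Cfsg
open scoped Pointwise

universe u

variable {G : Type u} [Group G] [Finite G] {p : ℕ}

theorem Setting.even (hS : Setting p G) : Even (Nat.card G) :=
  Nat.not_odd_iff_even.1 fun h => hS.nsol (CfsgLib.OddOrder.feitThompson h)

theorem not_isNilpotent_perm_four : ¬ Group.IsNilpotent (Equiv.Perm (Fin 4)) := fun h => by
  have hc := CfsgLib.commute_of_nilpotent (H := Equiv.Perm (Fin 4)) (Equiv.swap 0 1)
    (Equiv.swap 0 1 * Equiv.swap 1 2) (by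
      rw [orderOf_eq_prime (p := 2) (by decide) (by decide),
        orderOf_eq_prime (p := 3) (hp := ⟨Nat.prime_three⟩) (by decide) (by decide)]
      decide)
  exact absurd hc.eq (by decide)

/-- No section is the symmetric group of degree four. -/
theorem Setting.s4free (hS : Setting p G) : ¬ Involves (Equiv.Perm (Fin 4)) G := by
  rintro ⟨K, R, hR, ⟨e⟩⟩
  haveI := Fact.mk hS.prime
  by_cases hK : K = ⊤
  · subst hK
    haveI := hS.simple
    set f : G →* Equiv.Perm (Fin 4) := (e.toMonoidHom.comp (QuotientGroup.mk' _)).comp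
      (Subgroup.topEquiv (G := G)).symm.toMonoidHom
    have hf : Function.Surjective f :=
      (e.surjective.comp (QuotientGroup.mk'_surjective _)).comp (Subgroup.topEquiv (G := G)).symm.surjective
    rcases (inferInstance : f.ker.Normal).eq_bot_or_eq_top with h | h
    · refine hS.nsol ?_
      haveI : Group.IsSolvable (Equiv.Perm (Fin 4)) := CfsgLib.CharTheory.isSolvable_of_card_two_primes Nat.prime_two Nat.prime_three (a := 3) (b := 1) (by rw [Nat.card_perm, Nat.card_eq_fintype_card, Fintype.card_fin]; rfl)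
      exact Group.isSolvable_of_isSolvable_injective (f := f) ((MonoidHom.ker_eq_bot_iff f).1 h)
    · obtain ⟨g, hg⟩ := hf (Equiv.swap 0 1)
      have h1 : f g = 1 := f.mem_ker.1 (h ▸ mem_top g)
      rw [hg] at h1
      exact absurd h1 (by decide)
  obtain ⟨H, -, hHK, hHp, k, hk⟩ := exists_hall (p := p) (A := ⊥) (hS.sol K hK) bot_le (by simp)
  let f : H →* Equiv.Perm (Fin 4) := (e.toMonoidHom.comp (QuotientGroup.mk' _)).comp (Subgroup.inclusion hHK)
  have hg : Function.Surjective (e.toMonoidHom.comp (QuotientGroup.mk' (R.subgroupOf K))) :=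
    e.surjective.comp (QuotientGroup.mk'_surjective _)
  set g := e.toMonoidHom.comp (QuotientGroup.mk' (R.subgroupOf K))
  have h24 : Nat.card (Equiv.Perm (Fin 4)) = 24 := by simp [Nat.card_perm]; rfl
  have hcop : (24 : ℕ).Coprime p := by
    have h3 : (3 : ℕ).Coprime p := (Nat.coprime_primes Nat.prime_three hS.prime).2 (by have := hS.three_lt; omega)
    simpa using Nat.Coprime.mul_left (hS.coprime_two_pow 3) h3
  have hfs : Function.Surjective f := by
    rw [← MonoidHom.range_eq_top]
    refine Subgroup.index_eq_one.1 ?_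
    have h1 : f.range = (H.subgroupOf K).map g := by
      ext y
      constructor
      · rintro ⟨x, rfl⟩
        exact ⟨⟨x, hHK x.2⟩, x.2, rfl⟩
      · rintro ⟨⟨x, hxK⟩, hx, rfl⟩
        exact ⟨⟨x, hx⟩, rfl⟩
    have h2 : f.range.index ∣ (H.subgroupOf K).index := h1 ▸ Subgroup.index_map_dvd _ hg
    have h3 : (H.subgroupOf K).index = p ^ k := by
      have := Subgroup.index_mul_card (H.subgroupOf K)
      rw [Nat.card_congr (subgroupOfEquivOfLe hHK).toEquiv, hk, mul_comm _ (p ^ k)] at this
      exact Nat.eq_of_mul_eq_mul_right Nat.card_pos this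
    have h4 : f.range.index ∣ 24 := h24 ▸ Subgroup.index_dvd_card _
    exact Nat.eq_one_of_dvd_coprimes (hcop.pow_right k) h4 (h3 ▸ h2)
  haveI := hS.nil H hHp
  exact not_isNilpotent_perm_four (Group.nilpotent_of_surjective f hfs)

/-- A small normalized elementary subgroup does not move a central involution of a Sylow 2-subgroup. -/
theorem Setting.le_centralizer_of_small (hS : Setting p G) {N S V : Subgroup G} (hN2 : IsPGroup 2 S)
    (hSmax : ¬ 2 ∣ S.index) (hSN : S ≤ N) {Q : Subgroup G} (hQ : IsPGroup 2 Q) (hNQ : N ≤ normalizer (Q : Set G))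
    (hVQ : V ≤ Q) (hNV : N ≤ normalizer (V : Set G)) (hV : Nat.card V ≤ 4) {z : G} (hz : z ∈ V) (hz1 : z ≠ 1)
    (hSz : S ≤ centralizer ({z} : Set G)) : N ≤ centralizer ({z} : Set G) := by
  classical
  set C := N ⊓ centralizer ({z} : Set G)
  -- the number of conjugates
  have hidx : C.relIndex N ≤ 3 := by
    let φ : N ⧸ C.subgroupOf N → {v : G // v ∈ V ∧ v ≠ 1} := Quotient.lift
      (fun n : N => ⟨n * z * (n : G)⁻¹, (mem_normalizer_iff.1 (hNV n.2) z).1 hz, fun e => hz1 (conj_eq_one_iff.1 e)⟩)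
      (fun a b hab => by
        replace hab : ((a⁻¹ * b : N) : G) ∈ C := (QuotientGroup.leftRel_apply (s := C.subgroupOf N)).1 hab
        have h1 := mem_centralizer_singleton_iff.1 hab.2
        push_cast at h1
        refine Subtype.ext ?_
        show (a : G) * z * (a : G)⁻¹ = (b : G) * z * (b : G)⁻¹
        calc (a : G) * z * (a : G)⁻¹ = a * (z * ((a : G)⁻¹ * b)) * (b : G)⁻¹ := by group
          _ = a * (((a : G)⁻¹ * b) * z) * (b : G)⁻¹ := by rw [h1]
          _ = b * z * (b : G)⁻¹ := by group)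
    have hφ : Function.Injective φ := by
      intro a b
      induction a using QuotientGroup.induction_on with | _ a => ?_
      induction b using QuotientGroup.induction_on with | _ b => ?_
      intro hab
      rw [QuotientGroup.eq, mem_subgroupOf]
      refine ⟨(a⁻¹ * b).2, mem_centralizer_singleton_iff.2 ?_⟩
      have h1 : (a : G) * z * (a : G)⁻¹ = b * z * (b : G)⁻¹ := congrArg Subtype.val hab
      push_cast
      calc (a : G)⁻¹ * b * z = (a : G)⁻¹ * ((b : G) * z * (b : G)⁻¹) * b := by group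
        _ = z * ((a : G)⁻¹ * b) := by rw [← h1]; group
    have h1 := Nat.card_le_card_of_injective φ hφ
    refine h1.trans ?_
    let ψ : Option {v : G // v ∈ V ∧ v ≠ 1} → V := fun o => o.elim 1 fun v => ⟨v, v.2.1⟩
    have hψ : Function.Injective ψ := by
      rintro (_ | a) (_ | b) hab
      · rfl
      · exact absurd (congrArg Subtype.val hab).symm b.2.2
      · exact absurd (congrArg Subtype.val hab) a.2.2
      · exact congrArg some (Subtype.ext (congrArg (fun v : V => (v : G)) hab :))
    have h2 := Nat.card_le_card_of_injective ψ hψ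
    rw [Finite.card_option] at h2
    omega
  have hodd : ¬ 2 ∣ C.relIndex N := fun h =>
    hSmax (h.trans ((Subgroup.relIndex_dvd_of_le_left _ (le_inf hSN hSz)).trans
      (Subgroup.relIndex_dvd_index_of_le (H := S) hSN)))
  by_contra hle
  have h1 : C.relIndex N ≠ 1 := fun e => hle ((Subgroup.relIndex_eq_one.1 e).trans inf_le_right)
  have h0 : C.relIndex N ≠ 0 := Subgroup.index_ne_zero_of_finite
  have h3 : C.relIndex N = 3 := by omega
  haveI := Fact.mk Nat.prime_three
  obtain ⟨P⟩ : Nonempty (Sylow 3 N) := inferInstance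
  have hPC : ((P : Subgroup N).map N.subtype) ≤ C := by
    rintro _ ⟨g, hg, rfl⟩
    refine ⟨g.2, mem_centralizer_singleton_iff.2 ?_⟩
    obtain ⟨j, hj⟩ := IsPGroup.iff_orderOf.1 P.2 ⟨g, hg⟩
    rw [Subgroup.orderOf_mk] at hj
    have hoG : orderOf (g : G) = 3 ^ j := by rw [Subgroup.orderOf_coe, hj]
    have hc := hS.comm_two_group hQ (hNQ g.2) (hoG ▸ (by decide : Odd 3).pow)
      (hoG ▸ ((Nat.coprime_primes Nat.prime_three hS.prime).2 (by have := hS.three_lt; omega)).pow_left j)
    exact (hc z (hVQ hz)).symm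
  refine P.not_dvd_index ?_
  have h4 : C.relIndex N ∣ ((P : Subgroup N).map N.subtype).relIndex N := Subgroup.relIndex_dvd_of_le_left _ hPC
  rw [h3] at h4
  rwa [Subgroup.relIndex, Subgroup.subgroupOf, Subgroup.comap_map_eq_self_of_injective N.subtype_injective] at h4

/-- There is a normal elementary abelian subgroup of order at least eight in a Sylow 2-subgroup. -/
theorem Setting.exists_eight (hS : Setting p G) :
    ∃ (S : Sylow 2 G) (E : Subgroup G), E ≤ (S : Subgroup G) ∧ (S : Subgroup G) ≤ normalizer (E : Set G) ∧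
      IsElementaryAbelian 2 E ∧ 8 ≤ Nat.card E := by
  classical
  haveI := Fact.mk Nat.prime_two
  obtain ⟨T, -, hT2, hTidx, hfus⟩ := CfsgLib.S3Free.controls_center_thompson hS.s4free
  rw [Subgroup.relIndex_top_right] at hTidx
  set S : Sylow 2 G := hT2.toSylow hTidx with hSd
  have hSne : T ≠ ⊥ := fun e => by
    rw [e, Subgroup.index_bot] at hTidx
    exact hTidx hS.even.two_dvd
  haveI : Nontrivial T := (Subgroup.nontrivial_iff_ne_bot T).2 hSne
  haveI := hT2.center_nontrivial
  obtain ⟨⟨⟨z, hzT⟩, hzc⟩, hz⟩ : ∃ c : Subgroup.center T, orderOf c = 2 := by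
    refine exists_prime_orderOf_dvd_card' 2 ?_
    obtain ⟨m, hm⟩ := (hT2.to_subgroup (Subgroup.center T)).exists_card_eq
    rw [hm]
    refine dvd_pow_self 2 fun e => ?_
    rw [e, pow_zero] at hm
    exact (Finite.one_lt_card (α := Subgroup.center T)).ne' hm
  rw [Subgroup.orderOf_mk, Subgroup.orderOf_mk] at hz
  have hzcT : ∀ t ∈ T, t * z = z * t := fun t ht =>
    congrArg Subtype.val (Subgroup.mem_center_iff.1 hzc ⟨t, ht⟩)
  have hz2 : z ^ 2 = 1 := hz ▸ pow_orderOf_eq_one z
  have hz1 : z ≠ 1 := fun e => by rw [e, orderOf_one] at hz; norm_num at hz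
  set J := thompsonSubgroupOf 2 T with hJ
  have hJT : J ≤ T := map_subtype_le _
  set E := StrongEmbedS4.zS J with hE
  have hEea : IsElementaryAbelian 2 E := CfsgLib.SolvSF.ea_of_comm (StrongEmbedS4.ea_zS J).comm (StrongEmbedS4.ea_zS J).pow
  have hET : E ≤ T := (StrongEmbedS4.zS_le J).trans hJT
  have hNJE : normalizer (J : Set G) ≤ normalizer (E : Set G) := StrongEmbedS4.normalizer_le_zS J
  have hTJ : T ≤ normalizer (J : Set G) := by
    intro t ht
    refine Local.mem_normalizer_of_map_conj_eq ?_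
    rw [hJ, ← JComp.thompsonOf_map (f := (MulAut.conj t).toMonoidHom) (MulAut.conj t).injective,
      Local.map_conj_eq_of_mem_normalizer (Subgroup.le_normalizer ht)]
  have hzJ : z ∈ J := by
    obtain ⟨A, hA, hmax⟩ := Set.exists_max_image {B : Subgroup T | IsElementaryAbelian 2 B}
      (fun B => Nat.card B) (Set.toFinite _) ⟨⊥, CfsgLib.SolvSF.ea_of_comm (by simp) (by simp)⟩
    have hA' : A ∈ maxElementaryAbelianSubgroups 2 T := ⟨hA, hmax⟩
    have hzA : (⟨z, hzT⟩ : T) ∈ A := by
      have hsup : IsElementaryAbelian 2 (A ⊔ zpowers (⟨z, hzT⟩ : T) : Subgroup T) := by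
        have hgen : A ⊔ zpowers (⟨z, hzT⟩ : T) = closure ((A : Set T) ∪ {⟨z, hzT⟩}) := by
          rw [Subgroup.closure_union, Subgroup.closure_eq, zpowers_eq_closure]
        have hzc' : ∀ a : T, a * ⟨z, hzT⟩ = ⟨z, hzT⟩ * a := Subgroup.mem_center_iff.1 hzc
        have hcomm : ∀ a ∈ A ⊔ zpowers (⟨z, hzT⟩ : T), ∀ b ∈ A ⊔ zpowers (⟨z, hzT⟩ : T), a * b = b * a := by
          rw [hgen]
          intro a ha b hb
          have h0 : IsMulCommutative (closure ((A : Set T) ∪ {⟨z, hzT⟩})) := Subgroup.isMulCommutative_closure (by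
            rintro x (hx | rfl) y (hy | rfl)
            · exact congrArg Subtype.val (hA.1.is_comm.comm ⟨x, hx⟩ ⟨y, hy⟩)
            · exact hzc' x
            · exact (hzc' y).symm
            · rfl)
          exact congrArg Subtype.val (h0.is_comm.comm ⟨a, ha⟩ ⟨b, hb⟩)
        refine CfsgLib.SolvSF.ea_of_comm hcomm fun a ha => ?_
        have ha' := ha
        rw [hgen] at ha
        induction ha using Subgroup.closure_induction with
        | mem x hx =>
          rcases hx with hx | rfl
          · exact hA.2 x hx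
          · exact Subtype.ext hz2
        | one => exact one_pow 2
        | mul x y hx hy ihx ihy =>
          rw [← hgen] at hx hy
          rw [(show Commute x y from hcomm x hx y hy).mul_pow, ihx hx, ihy hy, one_mul]
        | inv x hx ihx =>
          rw [← hgen] at hx
          rw [inv_pow, ihx hx, inv_one]
      exact (Subgroup.eq_of_le_of_card_ge (le_sup_left : A ≤ A ⊔ zpowers _) (hmax _ hsup)).ge
        (mem_sup_right (mem_zpowers _))
    exact ⟨⟨z, hzT⟩, le_sSup hA' hzA, rfl⟩
  have hzE : z ∈ E := ⟨hzJ, hz2, fun t ht => hzcT t (hJT ht)⟩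
  refine ⟨S, E, hET, hTJ.trans hNJE, hEea, ?_⟩
  by_contra hlt
  push Not at hlt
  have hE4 : Nat.card E ≤ 4 := by
    obtain ⟨i, hi⟩ := IsPGroup.iff_card.1 (hT2.to_le hET)
    rw [hi] at hlt ⊢
    have h3 : i < 3 := (Nat.pow_lt_pow_iff_right (by norm_num)).1 (show 2 ^ i < 2 ^ 3 by simpa using hlt)
    exact Nat.pow_le_pow_right (show 0 < 2 by norm_num) (show i ≤ 2 by omega) |>.trans (by norm_num)
  have hTz : T ≤ centralizer ({z} : Set G) := fun t ht => mem_centralizer_singleton_iff.2 (hzcT t ht)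
  have hJC : normalizer (J : Set G) ≤ centralizer ({z} : Set G) :=
    hS.le_centralizer_of_small hT2 hTidx hTJ (hT2.to_le hJT) le_rfl (StrongEmbedS4.zS_le J) hNJE hE4 hzE hz1 hTz
  set Z := T ⊓ centralizer (T : Set G)
  have hV0 : Nat.card (StrongEmbedS4.zS T) ≤ 4 := by
    refine le_trans (Subgroup.card_le_of_le ?_) hE4
    intro x hx
    refine ⟨?_, hx.2.1, fun t ht => hx.2.2 t (hJT ht)⟩
    obtain ⟨A, hA, hmax⟩ := Set.exists_max_image {B : Subgroup T | IsElementaryAbelian 2 B}
      (fun B => Nat.card B) (Set.toFinite _) ⟨⊥, CfsgLib.SolvSF.ea_of_comm (by simp) (by simp)⟩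
    have hxc' : ∀ a : T, a * ⟨x, hx.1⟩ = ⟨x, hx.1⟩ * a := fun a => Subtype.ext (hx.2.2 a a.2)
    have hgen : A ⊔ zpowers (⟨x, hx.1⟩ : T) = closure ((A : Set T) ∪ {⟨x, hx.1⟩}) := by
      rw [Subgroup.closure_union, Subgroup.closure_eq, zpowers_eq_closure]
    have hcl : IsMulCommutative (closure ((A : Set T) ∪ {⟨x, hx.1⟩})) := Subgroup.isMulCommutative_closure (by
      rintro a (ha | rfl) b (hb | rfl)
      · exact congrArg Subtype.val (hA.1.is_comm.comm ⟨a, ha⟩ ⟨b, hb⟩)
      · exact hxc' a
      · exact (hxc' b).symm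
      · rfl)
    have hsup : IsElementaryAbelian 2 (A ⊔ zpowers (⟨x, hx.1⟩ : T) : Subgroup T) := by
      rw [hgen]
      refine CfsgLib.SolvSF.ea_of_comm (fun a ha b hb => congrArg Subtype.val (hcl.is_comm.comm ⟨a, ha⟩ ⟨b, hb⟩)) ?_
      intro a ha
      induction ha using Subgroup.closure_induction with
      | mem a ha =>
        rcases ha with ha | rfl
        · exact hA.2 a ha
        · exact Subtype.ext hx.2.1
      | one => exact one_pow 2
      | mul a b ha hb iha ihb =>
        rw [(show Commute a b from congrArg Subtype.val (hcl.is_comm.comm ⟨a, ha⟩ ⟨b, hb⟩)).mul_pow, iha, ihb, one_mul]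
      | inv a ha iha => rw [inv_pow, iha, inv_one]
    exact ⟨⟨x, hx.1⟩, le_sSup (show A ∈ maxElementaryAbelianSubgroups 2 T from ⟨hA, hmax⟩)
      ((Subgroup.eq_of_le_of_card_ge (le_sup_left : A ≤ A ⊔ zpowers _) (hmax _ hsup)).ge
        (mem_sup_right (mem_zpowers _))), rfl⟩
  have hZC : normalizer (Z : Set G) ≤ centralizer ({z} : Set G) := by
    refine hS.le_centralizer_of_small hT2 hTidx ?_ (hT2.to_le inf_le_left) le_rfl
      (V := StrongEmbedS4.zS T) ?_ ?_ hV0 ⟨hzT, hz2, hzcT⟩ hz1 hTz
    · intro t ht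
      refine Subgroup.centralizer_le_normalizer _ fun w hw => ?_
      exact (hw.2 t ht).symm
    · exact fun x hx => ⟨hx.1, fun t ht => hx.2.2 t ht⟩
    · intro g hg
      have hmem : ∀ n ∈ normalizer (Z : Set G), ∀ x ∈ StrongEmbedS4.zS T, n * x * n⁻¹ ∈ StrongEmbedS4.zS T := by
        intro n hn x hx
        have h1 := (mem_normalizer_iff.1 hn x).1 ⟨hx.1, fun t ht => hx.2.2 t ht⟩
        exact ⟨h1.1, by rw [conj_pow, hx.2.1, mul_one, mul_inv_cancel], fun t ht => h1.2 t ht⟩
      refine mem_normalizer_iff.2 fun x => ⟨hmem g hg x, fun hx => ?_⟩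
      simpa [mul_assoc] using hmem g⁻¹ (inv_mem hg) _ hx
  -- `z` is isolated
  have hiso : ∀ g : G, g * z * g⁻¹ ∈ T → g * z * g⁻¹ = z := by
    intro g hg
    obtain ⟨n, c, hc0, hsteps, hlast⟩ := hfus {z} g (mem_top g) (by simpa using hzT)
      (by rintro _ ⟨_, rfl, rfl⟩; exact hg)
    have hall : ∀ i, c i ∈ centralizer ({z} : Set G) := by
      intro i
      induction i using Fin.induction with
      | zero => rw [hc0]; exact one_mem _
      | succ i ih =>
        obtain ⟨W, hW, hmem⟩ := hsteps i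
        have h2 : c i.succ * (c i.castSucc)⁻¹ ∈ centralizer ({z} : Set G) := by
          rcases hW with rfl | hW
          · exact hZC hmem.2
          · rw [Set.mem_singleton_iff] at hW
            subst hW
            exact hJC hmem.2
        simpa using mul_mem h2 ih
    have hgz : g * z * g⁻¹ = c (Fin.last n) * z * (c (Fin.last n))⁻¹ := by
      have := hlast.2
      exact (this z rfl).symm
    rw [hgz, mem_centralizer_singleton_iff.1 (hall _), mul_inv_cancel_right]
  have hI := CfsgLib.ZStar.isolated_of_sylow S hz hzT hiso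
  have hstar := CfsgLib.ZStar.inZStar hz hI
  have hO : pPrimeCore 2 G = ⊥ := by
    haveI := hS.simple
    refine ((inferInstance : (pPrimeCore 2 G).Normal).eq_bot_or_eq_top).resolve_right fun h => ?_
    have h1 := CfsgLib.card_pPrimeCore_coprime 2 (G := G)
    rw [h, Subgroup.card_top] at h1
    exact Nat.not_coprime_of_dvd_of_dvd (by norm_num) hS.even.two_dvd (dvd_refl 2) h1
  refine hz1 (Subgroup.mem_bot.1 (hS.center_eq_bot ▸ Subgroup.mem_center_iff.2 fun g => ?_))
  have h1 := hstar g
  rw [hO, Subgroup.mem_bot, mul_inv_eq_one, mul_inv_eq_iff_eq_mul] at h1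
  exact h1

theorem not_prankLE_of_card {B V : Subgroup G} (hVB : V ≤ B) (hV : IsElementaryAbelian 2 V)
    (hV4 : 4 ≤ Nat.card V) : ¬ PRankLE 2 1 B := fun h => by
  have hc : IsMulCommutative (V.subgroupOf B) := ⟨⟨fun a b => Subtype.ext (Subtype.ext
    (congrArg Subtype.val (hV.1.is_comm.comm ⟨((a : B) : G), a.2⟩ ⟨((b : B) : G), b.2⟩) :))⟩⟩
  have h1 := h (V.subgroupOf B) hc fun a ha => Subtype.ext (hV.2 _ ha)
  rw [Nat.card_congr (subgroupOfEquivOfLe hVB).toEquiv] at h1
  omega

/-- An involution of `S` has a centralizer in `N(W)` when `W` comes from the signalizer functor. -/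
theorem Setting.centralizer_le_aux (hS : Setting p G) (S : Sylow 2 G) {M W : Subgroup G} (hWM : W ≤ M)
    (hcore : ∀ t ∈ (S : Subgroup G), orderOf t = 2 → centralizerPPrimeCore 2 t ≤ W)
    (hN : ∀ B : Subgroup G, B ≤ (S : Subgroup G) → ¬ PRankLE 2 1 B → normalizer (B : Set G) ≤ M)
    (hSM : (S : Subgroup G) ≤ M)
    {t : G} (htS : t ∈ (S : Subgroup G)) (ht : orderOf t = 2) {T : Subgroup G}
    (hT2 : IsPGroup 2 T) (hTS : T ≤ (S : Subgroup G)) (hTC : T ≤ centralizer ({t} : Set G))
    (hTidx : ¬ 2 ∣ T.relIndex (centralizer ({t} : Set G))) (hTrank : ¬ PRankLE 2 1 T) :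
    centralizer ({t} : Set G) ≤ M := by
  haveI := Fact.mk Nat.prime_two
  have ht1 : t ≠ 1 := fun e => by rw [e, orderOf_one] at ht; norm_num at ht
  set L := centralizer ({t} : Set G)
  haveI : Group.IsSolvable L := hS.sol L (hS.centralizer_ne_top ht1)
  set O := pPrimeCore 2 L with hOd
  set π := QuotientGroup.mk' O with hπ
  set TL : Sylow 2 L := (hT2.of_equiv (subgroupOfEquivOfLe hTC).symm).toSylow hTidx
  set K := pPrimePCore 2 L with hK
  haveI : K.Normal := by rw [hK, pPrimePCore]; infer_instance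
  obtain ⟨P, hP⟩ := PLocal.exists_sylow_inf TL K
  have hfr := Sylow.normalizer_sup_eq_top P
  rw [hP] at hfr
  set Qs := (TL : Subgroup L) ⊓ K with hQs
  set Q := Qs.map L.subtype
  have hQT : Q ≤ T := by
    rintro _ ⟨q, hq, rfl⟩
    exact hq.1
  have hOM : O.map L.subtype ≤ M := (hcore t htS ht).trans hWM
  -- `K = O Q`
  have hKO : ∀ k ∈ K, ∃ o ∈ O, ∃ q ∈ Qs, k = o * q := by
    intro k hk
    have hc : pCore 2 (L ⧸ O) ≤ (TL : Subgroup L).map π := by
      rw [← Sylow.coe_mapSurjective (QuotientGroup.mk'_surjective O) TL]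
      exact pCore_le_sylow _
    obtain ⟨q, hq, he⟩ := hc hk
    have ho : k * q⁻¹ ∈ O := (QuotientGroup.eq_one_iff _).1 (show π (k * q⁻¹) = 1 by
      rw [map_mul, map_inv, he]; exact mul_inv_cancel _)
    have hqK : q ∈ K := by
      show π q ∈ pCore 2 (L ⧸ O)
      rw [he]; exact hk
    exact ⟨k * q⁻¹, ho, q, ⟨hq, hqK⟩, by group⟩
  have hKM : K.map L.subtype ≤ M := by
    rintro _ ⟨k, hk, rfl⟩
    obtain ⟨o, ho, q, hq, rfl⟩ := hKO k hk
    exact mul_mem (hOM ⟨o, ho, rfl⟩) (hSM (hTS hq.1))
  by_cases hQr : PRankLE 2 1 Q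
  swap
  · -- a noncyclic normalized 2-group
    intro g hg
    obtain ⟨n, hn, k, hk, he⟩ := Subgroup.mem_sup_of_normal_right.1 (hfr ▸ mem_top (⟨g, hg⟩ : L) :
      (⟨g, hg⟩ : L) ∈ normalizer (Qs : Set L) ⊔ K)
    have hg' : g = (n : G) * k := congrArg Subtype.val he.symm
    rw [hg']
    exact mul_mem (hN Q (hQT.trans hTS) hQr (Subgroup.le_normalizer_map L.subtype ⟨n, hn, rfl⟩))
      (hKM ⟨k, hk, rfl⟩)
  -- every odd element of the normalizer centralizes `Q`
  have hQ2 : IsPGroup 2 Q := hT2.to_le hQT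
  have hodd : ∀ g ∈ normalizer (Q : Set G), Odd (orderOf g) → g ∈ centralizer (Q : Set G) := by
    intro g hg hgodd
    obtain ⟨a, m, hm, he⟩ := Nat.exists_eq_pow_mul_and_not_dvd (orderOf_pos g).ne' 3 (by norm_num)
    have h3p : (3 : ℕ).Coprime p := (Nat.coprime_primes Nat.prime_three hS.prime).2 (by have := hS.three_lt; omega)
    have hma : m.Coprime (3 ^ a) := ((Nat.Prime.coprime_iff_not_dvd Nat.prime_three).2 hm).symm.pow_right a
    have hmodd : Odd m := (Nat.odd_mul.1 (he ▸ hgodd)).2
    have h1 : g ^ 3 ^ a ∈ centralizer (Q : Set G) := by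
      have ho : orderOf (g ^ 3 ^ a) = m := by
        rw [orderOf_pow' g (pow_ne_zero a (by norm_num)), he, Nat.gcd_eq_right (Dvd.intro _ rfl),
          Nat.mul_div_cancel_left _ (pow_pos (by norm_num) a)]
      refine CfsgLib.RankAut.mem_centralizer (p := 2) hQ2 (rank_le_two hQ2 hQr) (pow_mem hg _)
        (by rw [ho]; exact Nat.coprime_two_right.2 hmodd) fun i hi hi' => ?_
      interval_cases i
      · simp
      · rw [ho]
        norm_num
        exact ((Nat.Prime.coprime_iff_not_dvd Nat.prime_three).2 hm).symm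
    have h2 : g ^ m ∈ centralizer (Q : Set G) := by
      have ho : orderOf (g ^ m) = 3 ^ a := by
        rw [orderOf_pow' g (show m ≠ 0 by rintro rfl; exact hm (dvd_zero 3)), he, Nat.gcd_eq_right (Dvd.intro_left _ rfl),
          Nat.mul_div_cancel _ (Nat.pos_of_ne_zero (show m ≠ 0 by rintro rfl; exact hm (dvd_zero 3)))]
      exact hS.comm_two_group hQ2 (pow_mem hg _) (by rw [ho]; exact (by decide : Odd 3).pow) (by rw [ho]; exact h3p.pow_left a)
    have key : g = (g ^ 3 ^ a) ^ (Nat.gcdA (3 ^ a) m) * (g ^ m) ^ (Nat.gcdB (3 ^ a) m) := by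
      have hb := Nat.gcd_eq_gcd_ab (3 ^ a) m
      rw [hma.symm.gcd_eq_one] at hb
      rw [← zpow_natCast g (3 ^ a), ← zpow_natCast g m, ← zpow_mul, ← zpow_mul, ← zpow_add, ← hb]
      simp
    rw [key]
    exact mul_mem (zpow_mem h1 _) (zpow_mem h2 _)
  -- the quotient by the core is a 2-group
  have hcon : centralizer (pCore 2 (L ⧸ O) : Set (L ⧸ O)) ≤ pCore 2 (L ⧸ O) :=
    CfsgLib.centralizer_pCore_le Nat.prime_two (CfsgLib.pPrimeCore_quotient_eq_bot 2)
  have hquot : IsPGroup 2 (L ⧸ O) := by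
    intro y
    obtain ⟨l, rfl⟩ := QuotientGroup.mk'_surjective O y
    obtain ⟨n, hn, k, hk, rfl⟩ := Subgroup.mem_sup_of_normal_right.1 (hfr ▸ mem_top l :
      l ∈ normalizer (Qs : Set L) ⊔ K)
    obtain ⟨a, m, hm, he⟩ := Nat.exists_eq_pow_mul_and_not_dvd (orderOf_pos (π n)).ne' 2 (by norm_num)
    have hz : π (n ^ 2 ^ a) = 1 := by
      obtain ⟨i, j, hj, he'⟩ := Nat.exists_eq_pow_mul_and_not_dvd (orderOf_pos (n ^ 2 ^ a)).ne' 2 (by norm_num)
      set n' := (n ^ 2 ^ a) ^ 2 ^ i with hn'
      have hjodd : Odd (orderOf n') := by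
        rw [hn', orderOf_pow' _ (pow_ne_zero i two_ne_zero), he', Nat.gcd_eq_right (Dvd.intro _ rfl),
          Nat.mul_div_cancel_left _ (Nat.two_pow_pos i)]
        exact Nat.odd_iff.2 (by omega)
      have hn'N : (n' : G) ∈ normalizer (Q : Set G) :=
        Subgroup.le_normalizer_map L.subtype ⟨n', pow_mem (pow_mem hn _) _, rfl⟩
      have hc := hodd _ hn'N (by rwa [Subgroup.orderOf_coe])
      have hn'c : π n' ∈ centralizer (pCore 2 (L ⧸ O) : Set (L ⧸ O)) := by
        intro w hw
        obtain ⟨w, rfl⟩ := QuotientGroup.mk'_surjective O w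
        obtain ⟨o, ho, q, hq, rfl⟩ := hKO w hw
        have hoq : π (o * q) = π q := by
          rw [map_mul, show π o = 1 from (QuotientGroup.eq_one_iff o).2 ho, one_mul]
        rw [hoq, ← map_mul, ← map_mul]
        exact congrArg π (Subtype.ext (hc _ ⟨q, hq, rfl⟩))
      obtain ⟨b, hb⟩ := CfsgLib.isPGroup_pCore (G := L ⧸ O) 2 ⟨_, hcon hn'c⟩
      have hone : π n' = 1 := orderOf_eq_one_iff.1 (Nat.eq_one_of_dvd_coprimes
        ((Nat.coprime_two_right.2 hjodd).pow_right b) (orderOf_map_dvd π n')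
        (orderOf_dvd_of_pow_eq_one (congrArg Subtype.val hb)))
      rw [hn', ← pow_mul, map_pow] at hone
      have h5 : orderOf (π n) ∣ 2 ^ a * 2 ^ i := orderOf_dvd_of_pow_eq_one hone
      rw [he, ← pow_add] at h5
      have hm1 : m = 1 := Nat.eq_one_of_dvd_coprimes
        ((Nat.Prime.coprime_iff_not_dvd Nat.prime_two).2 hm |>.symm.pow_right _) dvd_rfl
        (dvd_trans (Dvd.intro_left _ rfl) h5)
      rw [map_pow, ← orderOf_dvd_iff_pow_eq_one, he, hm1, mul_one]
    -- `π n` and `π k` are 2-elements and `π k` lies in a normal 2-subgroup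
    have hk' : π k ∈ pCore 2 (L ⧸ O) := hk
    have hn2 : (QuotientGroup.mk' (pCore 2 (L ⧸ O)) (π (n * k))) ^ 2 ^ a = 1 := by
      rw [map_mul π, map_mul, show QuotientGroup.mk' (pCore 2 (L ⧸ O)) (π k) = 1 from
        (QuotientGroup.eq_one_iff _).2 hk', mul_one, ← map_pow, ← map_pow, hz, map_one]
    rw [← map_pow, QuotientGroup.mk'_apply, QuotientGroup.eq_one_iff] at hn2
    obtain ⟨b, hb⟩ := CfsgLib.isPGroup_pCore (G := L ⧸ O) 2 ⟨_, hn2⟩
    exact ⟨a + b, by rw [pow_add, pow_mul]; exact congrArg Subtype.val hb⟩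
  have hidx : (TL : Subgroup L).map π = ⊤ := by
    rw [← Sylow.coe_mapSurjective (QuotientGroup.mk'_surjective O) TL]
    exact ((TL.mapSurjective (QuotientGroup.mk'_surjective O)).3
      (Q := ⊤) (hquot.to_subgroup ⊤) le_top).symm
  intro g hg
  obtain ⟨s, hs, he⟩ := hidx.ge (mem_top (π ⟨g, hg⟩))
  have ho : (⟨g, hg⟩ : L) * s⁻¹ ∈ O := (QuotientGroup.eq_one_iff _).1 (show π ((⟨g, hg⟩ : L) * s⁻¹) = 1 by
    rw [map_mul, map_inv, he, mul_inv_cancel])
  have h2 := mul_mem (hOM ⟨_, ho, rfl⟩) (hSM (hTS hs))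
  simpa using h2

/-- The minimal counterexample has a strongly embedded subgroup and 2-rank at least three. -/
theorem Setting.exists_embedded (hS : Setting p G) :
    ∃ (M : Subgroup G) (S : Sylow 2 G) (E : Subgroup G), IsStronglyPEmbedded 2 M ∧
      E ≤ (S : Subgroup G) ∧ IsElementaryAbelian 2 E ∧ 8 ≤ Nat.card E := by
  classical
  haveI := Fact.mk Nat.prime_two
  obtain ⟨S, E, hES, hSE, hE, hE8⟩ := hS.exists_eight
  suffices h : ∃ M : Subgroup G, IsStronglyPEmbedded 2 M by
    obtain ⟨M, hM⟩ := h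
    exact ⟨M, S, E, hM, hES, hE, hE8⟩
  have hcon : TwoLocalSignalizer.Hyp G := fun t ht => by
    haveI : Group.IsSolvable (centralizer ({t} : Set G)) :=
      hS.sol _ (hS.centralizer_ne_top fun e => by rw [e, orderOf_one] at ht; norm_num at ht)
    exact CfsgLib.PairSol.isPConstrained
  obtain ⟨W, hWodd, hW⟩ := TwoLocalSignalizer.exists_odd_generated hcon S hES hSE hE hE8
  have hSr : ¬ PRankLE 2 1 (S : Subgroup G) := not_prankLE_of_card hES hE (by omega)
  have hcore : ∀ t ∈ (S : Subgroup G), orderOf t = 2 → centralizerPPrimeCore 2 t ≤ W := by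
    intro t ht ht2
    rw [(hW _ le_rfl hSr).1]
    exact TwoLocalSignalizer.core_le_Wf ht fun e => by rw [e, orderOf_one] at ht2; norm_num at ht2
  have hconjInto : ∀ t : G, orderOf t = 2 → ∃ g : G, g * t * g⁻¹ ∈ (S : Subgroup G) := by
    intro t ht
    obtain ⟨Q, hQ⟩ := (IsPGroup.of_card (G := zpowers t) (n := 1)
      (by rw [Nat.card_zpowers, ht, pow_one])).exists_le_sylow
    obtain ⟨g, hg⟩ := MulAction.exists_smul_eq G Q S
    refine ⟨g, ?_⟩
    rw [← hg]
    exact ⟨t, hQ (mem_zpowers t), rfl⟩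
  by_cases hW1 : W = ⊥
  · -- all 2-locals have characteristic two
    have hcore1 : ∀ t : G, orderOf t = 2 → centralizerPPrimeCore 2 t = ⊥ := by
      intro t ht
      obtain ⟨g, hg⟩ := hconjInto t ht
      have h1 : centralizerPPrimeCore 2 (g * t * g⁻¹) = ⊥ :=
        le_bot_iff.1 (hW1 ▸ hcore _ hg (by rw [ZStar.orderOf_conj, ht]))
      rw [← CfsgLib.SolvSF.map_centralizerPPrimeCore'] at h1
      exact (Subgroup.map_eq_bot_iff_of_injective _ (MulAut.conj g).injective).1 h1
    have hO : pCore 2 G = ⊥ := by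
      haveI := hS.simple
      refine ((inferInstance : (pCore 2 G).Normal).eq_bot_or_eq_top).resolve_right fun h => ?_
      exact hS.ne_top_of_isPGroup (CfsgLib.isPGroup_pCore 2) h
    have hloc : ∀ M : Subgroup G, IsTwoLocal M →
        Group.IsSolvable M ∧ IsOfCharacteristicTwo ↥M ∧ ¬ Involves (Equiv.Perm (Fin 4)) ↥M := by
      rintro _ ⟨T, hT, hT1, rfl⟩
      have hne : normalizer (T : Set G) ≠ ⊤ := hS.normalizer_ne_top hT1 (hS.ne_top_of_isPGroup hT)
      haveI hsol := hS.sol _ hne
      refine ⟨hsol, CfsgLib.centralizer_pCore_le Nat.prime_two ?_,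
        fun h => hS.s4free ?_⟩
      rotate_left
      · obtain ⟨K', R', hR', ⟨e'⟩⟩ := h
        obtain ⟨f, hf⟩ := Quadratic.exists_surjective_map (normalizer (T : Set G)).subtype
          (Subgroup.subtype_injective _) (e'.toMonoidHom.comp (QuotientGroup.mk' _))
          (e'.surjective.comp (QuotientGroup.mk'_surjective _))
        exact QdSection.involves_of_surjective _ f hf
      -- the core of the normalizer is trivial
      haveI : Nontrivial T := (Subgroup.nontrivial_iff_ne_bot T).2 hT1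
      haveI := hT.center_nontrivial
      obtain ⟨⟨⟨q, hqT⟩, hqc⟩, hq⟩ : ∃ c : Subgroup.center T, orderOf c = 2 := by
        refine exists_prime_orderOf_dvd_card' 2 ?_
        obtain ⟨m, hm⟩ := (hT.to_subgroup (Subgroup.center T)).exists_card_eq
        rw [hm]
        refine dvd_pow_self 2 fun e => ?_
        rw [e, pow_zero] at hm
        exact (Finite.one_lt_card (α := Subgroup.center T)).ne' hm
      rw [Subgroup.orderOf_mk, Subgroup.orderOf_mk] at hq
      set H := centralizer ({q} : Set G)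
      set N := normalizer (T : Set G)
      set D := (pPrimeCore 2 N).map N.subtype
      have hTH : T ≤ H := fun s hs => mem_centralizer_singleton_iff.2
        (congrArg Subtype.val (Subgroup.mem_center_iff.1 hqc ⟨s, hs⟩))
      have hDT : D ≤ centralizer (T : Set G) := by
        rintro _ ⟨d, hd, rfl⟩ s hs
        have hTn : (T.subgroupOf N).Normal := Subgroup.normal_in_normalizer
        obtain ⟨e, he⟩ := IsPGroup.iff_card.1 (hT.comap_of_injective N.subtype N.subtype_injective)
        have := Subgroup.commute_of_normal_of_disjoint _ _ hTn inferInstance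
          (Subgroup.disjoint_of_coprime_natCard (H := T.subgroupOf N) (K := pPrimeCore 2 N)
            (by rw [show Nat.card (T.subgroupOf N) = 2 ^ e from he]
                exact ((CfsgLib.card_pPrimeCore_coprime 2).symm.pow_left e)))
          ⟨s, Subgroup.le_normalizer hs⟩ d hs hd
        exact congrArg Subtype.val this
      have hDH : D ≤ H := fun d hd => mem_centralizer_singleton_iff.2 (hDT hd q hqT).symm
      have hHcore : pPrimeCore 2 H = ⊥ := by
        have h1 := hcore1 q hq
        rw [centralizerPPrimeCore, Subgroup.map_eq_bot_iff_of_injective _ (Subgroup.subtype_injective _)] at h1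
        exact h1
      have key := CfsgLib.PLocal.pPrimeCore_normalizer
        (CfsgLib.Transitivity.centralizer_pCore_quotient_le (hcon q hq))
        (P := T.subgroupOf H) (hT.comap_of_injective H.subtype H.subtype_injective)
      rw [hHcore, bot_inf_eq, Subgroup.map_eq_bot_iff_of_injective _ (Subgroup.subtype_injective _)] at key
      set NH := normalizer ((T.subgroupOf H : Subgroup H) : Set H)
      have hDNH : D.subgroupOf H ≤ NH := by
        intro d hd
        refine Subgroup.centralizer_le_normalizer _ fun s hs => Subtype.ext ?_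
        exact hDT hd s hs
      haveI : ((D.subgroupOf H).subgroupOf NH).Normal := by
        refine ⟨fun d hd g => ?_⟩
        have hgN : ((g : H) : G) ∈ N := by
          refine mem_normalizer_iff.2 fun s => ⟨fun hs => ?_, fun hs => ?_⟩
          · exact (mem_normalizer_iff.1 g.2 ⟨s, hTH hs⟩).1 hs
          · have hsH : s ∈ H := by
              have h3 := mul_mem (mul_mem (inv_mem (g : H).2) (hTH hs)) (g : H).2
              simpa [mul_assoc] using h3
            exact (mem_normalizer_iff.1 g.2 ⟨s, hsH⟩).2 hs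
        obtain ⟨d', hd', hdd⟩ := hd
        refine ⟨⟨((g : H) : G), hgN⟩ * d' * ⟨((g : H) : G), hgN⟩⁻¹,
          (inferInstance : (pPrimeCore 2 N).Normal).conj_mem d' hd' _, ?_⟩
        show ((g : H) : G) * (d' : G) * ((g : H) : G)⁻¹ = _
        rw [show (d' : G) = ((d : H) : G) from hdd]
        rfl
      have h2 : (D.subgroupOf H).subgroupOf NH ≤ pPrimeCore 2 NH := CfsgLib.le_pPrimeCore (by
        rw [Nat.card_congr (subgroupOfEquivOfLe hDNH).toEquiv, Nat.card_congr (subgroupOfEquivOfLe hDH).toEquiv,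
          Subgroup.card_map_of_injective N.subtype_injective]
        exact CfsgLib.card_pPrimeCore_coprime 2)
      rw [key, le_bot_iff] at h2
      have h3 : D.subgroupOf H = ⊥ := (Subgroup.subgroupOf_eq_bot.1 h2).eq_bot_of_le hDNH
      have h4 : D = ⊥ := (Subgroup.subgroupOf_eq_bot.1 h3).eq_bot_of_le hDH
      exact (Subgroup.map_eq_bot_iff_of_injective _ N.subtype_injective).1 h4
    have hexists : ∃ M : Subgroup G, IsMaximalTwoLocal M := by
      have hS0 : (S : Subgroup G) ≠ ⊥ := fun e => by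
        have h1 := Subgroup.card_le_of_le (hES.trans e.le)
        rw [Subgroup.card_bot] at h1
        omega
      obtain ⟨M, hM, hmax⟩ := Set.exists_max_image {M : Subgroup G | IsTwoLocal M} (fun M => Nat.card M)
        (Set.toFinite _) ⟨_, (S : Subgroup G), S.2, hS0, rfl⟩
      exact ⟨M, hM, fun N hN hle => (Subgroup.eq_of_le_of_card_ge hle (hmax N hN)).symm⟩
    obtain ⟨M, hM⟩ := hexists
    obtain ⟨hMne, hMev, hMint⟩ := StrongEmbedS4.main hS.even hO hloc M hM
    exact ⟨M, StronglyEmbedded.of_inter hMne hMev.two_dvd fun g hg h =>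
      Nat.not_even_iff_odd.2 (hMint g hg) (even_iff_two_dvd.2 h)⟩
  -- the normalizer of `W`
  set M := normalizer (W : Set G)
  have hWtop : W ≠ ⊤ := fun e => by
    rw [e, Subgroup.card_top] at hWodd
    exact Nat.not_even_iff_odd.2 hWodd hS.even
  have hMne : M ≠ ⊤ := hS.normalizer_ne_top hW1 hWtop
  have hN : ∀ B : Subgroup G, B ≤ (S : Subgroup G) → ¬ PRankLE 2 1 B → normalizer (B : Set G) ≤ M :=
    fun B hB hr => (hW B hB hr).2
  have hSM : (S : Subgroup G) ≤ M := Subgroup.le_normalizer.trans (hN _ le_rfl hSr)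
  -- conjugation into `S` inside `M`
  have hinto : ∀ Q : Subgroup G, IsPGroup 2 Q → Q ≤ M →
      ∃ m ∈ M, Q.map (MulAut.conj m).toMonoidHom ≤ (S : Subgroup G) := by
    intro Q hQ hQM
    obtain ⟨Q', hQ'⟩ := (hQ.comap_of_injective M.subtype M.subtype_injective).exists_le_sylow (p := 2)
    set S' : Sylow 2 M := S.subtype hSM
    obtain ⟨m, hm⟩ := MulAction.exists_smul_eq M Q' S'
    refine ⟨m, m.2, ?_⟩
    rintro _ ⟨q, hq, rfl⟩
    have h1 : m * ⟨q, hQM hq⟩ * m⁻¹ ∈ (S' : Subgroup M) := by
      rw [← hm]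
      exact ⟨⟨q, hQM hq⟩, hQ' hq, rfl⟩
    exact h1
  have hrank_conj : ∀ (B : Subgroup G) (m : G), ¬ PRankLE 2 1 B →
      ¬ PRankLE 2 1 (B.map (MulAut.conj m).toMonoidHom : Subgroup G) := by
    intro B m hB h
    refine hB fun A hA hA2 => ?_
    have e := B.equivMapOfInjective (MulAut.conj m).toMonoidHom (MulAut.conj m).injective
    haveI := hA
    have := h (A.map e.toMonoidHom) inferInstance (by
      rintro _ ⟨a, ha, rfl⟩
      rw [← map_pow, hA2 a ha, map_one])
    rwa [Subgroup.card_map_of_injective e.injective] at this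
  have hconjN : ∀ (m : G) (X : Subgroup G), (normalizer (X : Set G)).map (MulAut.conj m).toMonoidHom =
      normalizer ((X.map (MulAut.conj m).toMonoidHom : Subgroup G) : Set G) := fun m X =>
    Subgroup.map_equiv_normalizer_eq X (MulAut.conj m)
  -- centralizers of involutions of `S`
  have hcent : ∀ t ∈ (S : Subgroup G), orderOf t = 2 → centralizer ({t} : Set G) ≤ M := by
    intro t ht ht2
    have htt : t * t = 1 := by rw [← pow_two, ← ht2, pow_orderOf_eq_one]
    set R := (S : Subgroup G) ⊓ centralizer ({t} : Set G)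
    have hRr : ¬ PRankLE 2 1 R :=
      not_prankLE_of_card (V := E ⊓ centralizer ({t} : Set G)) (inf_le_inf_right _ hES)
        (CfsgLib.Signalizer.ea_le hE inf_le_left)
        (TwoLocalSignalizer.four_le_fixed hE hE8 htt fun x hx => (mem_normalizer_iff.1 (hSE ht) x).1 hx)
    set L := centralizer ({t} : Set G)
    obtain ⟨T', hT'⟩ := ((S.2.to_le (inf_le_left : R ≤ _)).comap_of_injective L.subtype
      L.subtype_injective).exists_le_sylow (p := 2)
    set T := (T' : Subgroup L).map L.subtype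
    have hT2 : IsPGroup 2 T := T'.2.map _
    have hRT : R ≤ T := fun r hr => ⟨⟨r, hr.2⟩, hT' hr, rfl⟩
    -- `T` lies in `M`
    have hTM : T ≤ M := by
      by_contra hne
      have hlt : T ⊓ M < T := lt_of_le_of_ne inf_le_left fun e => hne (e ▸ inf_le_right)
      obtain ⟨m, hm, hmS⟩ := hinto (T ⊓ M) (hT2.to_le inf_le_left) inf_le_right
      have hr : ¬ PRankLE 2 1 (T ⊓ M : Subgroup G) :=
        not_prankLE_of_card (V := E ⊓ centralizer ({t} : Set G))
          (le_inf ((inf_le_inf_right _ hES).trans hRT) ((inf_le_left.trans hES).trans hSM))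
          (CfsgLib.Signalizer.ea_le hE inf_le_left)
          (TwoLocalSignalizer.four_le_fixed hE hE8 htt fun x hx => (mem_normalizer_iff.1 (hSE ht) x).1 hx)
      have h1 := hN _ hmS (hrank_conj _ m hr)
      rw [← hconjN] at h1
      have h2 : normalizer ((T ⊓ M : Subgroup G) : Set G) ≤ M := by
        intro x hx
        have h3 := h1 ⟨x, hx, rfl⟩
        simp only [MulEquiv.coe_toMonoidHom, MulAut.conj_apply] at h3
        simpa [mul_assoc] using mul_mem (mul_mem (inv_mem hm) h3) hm
      have h4 := StrongEmbedS4.exists_bigger hT2 hlt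
      exact h4.not_ge (le_inf inf_le_left (inf_le_right.trans h2))
    obtain ⟨m, hm, hmS⟩ := hinto T hT2 hTM
    have ht' : orderOf (m * t * m⁻¹) = 2 := by rw [ZStar.orderOf_conj, ht2]
    have hLmap : L.map (MulAut.conj m).toMonoidHom = centralizer ({m * t * m⁻¹} : Set G) := by
      ext x
      rw [Local.mem_map_conj, mem_centralizer_singleton_iff, mem_centralizer_singleton_iff]
      constructor
      · intro h
        calc x * (m * t * m⁻¹) = m * ((m⁻¹ * x * m) * t) * m⁻¹ := by group
          _ = _ := by rw [h]; group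
      · intro h
        calc m⁻¹ * x * m * t = m⁻¹ * (x * (m * t * m⁻¹)) * m := by group
          _ = _ := by rw [h]; group
    have htT : t ∈ T := hRT ⟨ht, mem_centralizer_singleton_iff.2 rfl⟩
    have h5 := hS.centralizer_le_aux S Subgroup.le_normalizer hcore hN hSM (hmS ⟨t, htT, rfl⟩) ht'
      (T := T.map (MulAut.conj m).toMonoidHom) (hT2.map _) hmS
      (hLmap ▸ Subgroup.map_mono (Subgroup.map_subtype_le _))
      (by
        change ¬ 2 ∣ (T.map (MulAut.conj m).toMonoidHom).relIndex (centralizer ({m * t * m⁻¹} : Set G))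
        rw [← hLmap, Subgroup.relIndex_map_map_of_injective _ _ (MulAut.conj m).injective,
          Subgroup.relIndex, Subgroup.subgroupOf, Subgroup.comap_map_eq_self_of_injective L.subtype_injective]
        exact T'.not_dvd_index)
      (hrank_conj _ m fun h => hRr fun A hA hA2 => by
        haveI := hA
        have := h (A.map (Subgroup.inclusion hRT)) inferInstance (by
          rintro _ ⟨a, ha, rfl⟩
          rw [← map_pow, hA2 a ha, map_one])
        rwa [Subgroup.card_map_of_injective (Subgroup.inclusion_injective hRT)] at this)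
    intro x hx
    have h3 := h5 (hLmap.le ⟨x, hx, rfl⟩)
    simp only [MulEquiv.coe_toMonoidHom, MulAut.conj_apply] at h3
    simpa [mul_assoc] using mul_mem (mul_mem (inv_mem hm) h3) hm
  refine ⟨M, StronglyEmbedded.of_normalizers hMne
    ((S.dvd_card_of_dvd_card hS.even.two_dvd).trans (Subgroup.card_dvd_of_le hSM)) fun Q hQM hQ2 hQ1 => ?_⟩
  obtain ⟨m, hm, hmS⟩ := hinto Q hQ2 hQM
  suffices h : normalizer ((Q.map (MulAut.conj m).toMonoidHom : Subgroup G) : Set G) ≤ M by
    rw [← hconjN] at h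
    intro x hx
    have h3 := h ⟨x, hx, rfl⟩
    simp only [MulEquiv.coe_toMonoidHom, MulAut.conj_apply] at h3
    simpa [mul_assoc] using mul_mem (mul_mem (inv_mem hm) h3) hm
  set B := Q.map (MulAut.conj m).toMonoidHom
  by_cases hBr : PRankLE 2 1 B
  swap
  · exact hN B hmS hBr
  have hB1 : B ≠ ⊥ := fun e => hQ1 ((Subgroup.map_eq_bot_iff_of_injective _ (MulAut.conj m).injective).1 e)
  haveI : Nontrivial B := (Subgroup.nontrivial_iff_ne_bot B).2 hB1
  haveI := (hQ2.map (MulAut.conj m).toMonoidHom).center_nontrivial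
  obtain ⟨⟨⟨q, hqB⟩, hqc⟩, hq⟩ : ∃ c : Subgroup.center B, orderOf c = 2 := by
    refine exists_prime_orderOf_dvd_card' 2 ?_
    obtain ⟨k, hk⟩ := ((hQ2.map (MulAut.conj m).toMonoidHom).to_subgroup (Subgroup.center B)).exists_card_eq
    rw [hk]
    refine dvd_pow_self 2 fun e => ?_
    rw [e, pow_zero] at hk
    exact (Finite.one_lt_card (α := Subgroup.center B)).ne' hk
  rw [Subgroup.orderOf_mk, Subgroup.orderOf_mk] at hq
  have hq' : q * q = 1 := by rw [← pow_two, ← hq, pow_orderOf_eq_one]
  -- `q` is the only involution of `B`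
  refine le_trans ?_ (hcent q (hmS hqB) hq)
  intro g hg
  rw [mem_centralizer_singleton_iff]
  by_contra hne
  set r := g * q * g⁻¹
  have hr : r ∈ B := (mem_normalizer_iff.1 hg q).1 hqB
  have hrq : r ≠ q := fun e => hne (mul_inv_eq_iff_eq_mul.1 e)
  have hr2 : r * r = 1 := by
    calc r * r = g * (q * q) * g⁻¹ := by simp only [r]; group
      _ = 1 := by rw [hq', mul_one, mul_inv_cancel]
  have hqr : Commute q r := (congrArg Subtype.val (Subgroup.mem_center_iff.1 hqc ⟨r, hr⟩)).symm
  set V : Subgroup G := closure {q, r}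
  have hVc : IsMulCommutative V := Subgroup.isMulCommutative_closure (by
    rintro a (rfl | rfl) b (rfl | rfl)
    · rfl
    · exact hqr
    · exact hqr.symm
    · rfl)
  have hV : IsElementaryAbelian 2 V := by
    refine CfsgLib.SolvSF.ea_of_comm (fun a ha b hb => congrArg Subtype.val (hVc.is_comm.comm ⟨a, ha⟩ ⟨b, hb⟩)) ?_
    intro a ha
    induction ha using Subgroup.closure_induction with
    | mem a ha =>
      rcases ha with rfl | rfl
      · rw [pow_two, hq']
      · rw [pow_two, hr2]
    | one => exact one_pow 2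
    | mul a b ha hb iha ihb =>
      rw [(show Commute a b from congrArg Subtype.val (hVc.is_comm.comm ⟨a, ha⟩ ⟨b, hb⟩)).mul_pow, iha, ihb,
        one_mul]
    | inv a ha iha => rw [inv_pow, iha, inv_one]
  refine not_prankLE_of_card (V := V) ((Subgroup.closure_le _).2 (by rintro a (rfl | rfl) <;> assumption)) hV ?_ hBr
  have h2 : 2 < Nat.card V := by
    have hlt : zpowers q < V := lt_of_le_of_ne (zpowers_le.2 (subset_closure (by simp))) fun e => by
      obtain ⟨i, hi⟩ := mem_zpowers_iff.1 (e ▸ subset_closure (by simp) : r ∈ zpowers q)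
      rcases Int.even_or_odd i with ⟨j, rfl⟩ | ⟨j, rfl⟩
      · rw [← two_mul, zpow_mul, show q ^ (2 : ℤ) = q * q from zpow_two q, hq', one_zpow] at hi
        have hq1 : q = 1 := by
          calc q = g⁻¹ * r * g := by simp only [r]; group
            _ = 1 := by rw [← hi]; group
        rw [hq1, orderOf_one] at hq
        norm_num at hq
      · rw [zpow_add, zpow_one, zpow_mul, show q ^ (2 : ℤ) = q * q from zpow_two q, hq', one_zpow, one_mul] at hi
        exact hrq hi.symm
    refine lt_of_le_of_ne ?_ fun e => hlt.ne (Subgroup.eq_of_le_of_card_ge hlt.le (by rw [Nat.card_zpowers, hq, e]))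
    exact (by rw [Nat.card_zpowers, hq] : Nat.card (zpowers q) = 2) ▸ Subgroup.card_le_of_le hlt.le
  exact TwoLocalSignalizer.four_le_of_two_lt ((hQ2.map _).to_le ((Subgroup.closure_le _).2
    (by rintro a (rfl | rfl) <;> assumption))) h2

end CfsgLib.PNilHall
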