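import Cfsg.Agent.Lib.PNilHall.CaseTwoCore
import Cfsg.Agent.Lib.StrongFusion.Stable
import Cfsg.Agent.Lib.PairSol.Main
import Cfsg.Agent.Lib.PStableControl.Control
import Cfsg.Agent.Lib.Quadratic.Consequences

/-!
If all subgroups of order prime to `p > 3` are nilpotent then the group is solvable.
-/

set_option autoImplicit false
set_option maxHeartbeats 800000
set_option linter.unusedSectionVars false
set_option linter.style.haveILetI false

namespace CfsgLib.PNilHall

open Subgroup Cfsg CfsgLib.StronglyEmbedded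
open scoped Pointwise

universe u

variable {G : Type u} [Group G] [Finite G] {p : ℕ}

theorem Setting.isNormalizerPStable (hS : Setting p G) [Fact p.Prime] : IsNormalizerPStable p G := by
  intro P hP g hg hq
  by_contra hout
  by_cases hP1 : P = ⊥
  · refine hout ?_
    have hc : g ∈ centralizer (P : Set G) := fun v hv => by
      rw [hP1, SetLike.mem_coe, Subgroup.mem_bot] at hv
      rw [hv, one_mul, mul_one]
    rw [(QuotientGroup.eq_one_iff _).2 (show (⟨g, hg⟩ : normalizer (P : Set G)) ∈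
      (centralizer (P : Set G)).subgroupOf (normalizer (P : Set G)) from hc)]
    exact one_mem _
  haveI := hS.sol _ (hS.normalizer_ne_top hP1 (hS.ne_top_of_isPGroup hP))
  obtain ⟨K, hK, f, hf⟩ := Quadratic.exists_sl2_section hS.ne_two hP le_rfl hg (Quadratic.quad_pointwise hq) hout
  have h3 := Quadratic.eq_three_of_isPSolvable hS.ne_two
    (CfsgLib.PLocal.isPSolvable_of_isSolvable _ (normalizer (P : Set G)) rfl inferInstance) hK f hf
  have := hS.three_lt
  omega

variable {M : Subgroup G} {S : Sylow 2 G} {E : Subgroup G}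

/-- A strongly embedded subgroup without normal 2-subgroup is impossible. -/
theorem Config.false_of_pCore_eq_bot (c : Config p M S E) (hcore : pCore 2 M = ⊥) : False := by
  haveI := Fact.mk Nat.prime_two
  haveI := Fact.mk c.set.prime
  haveI := c.solM
  set Y := pPrimeCore p M
  -- the `p'`-core has odd order
  have hYodd : ¬ 2 ∣ Nat.card Y := by
    intro h
    have hnil := c.set.nil (Y.map M.subtype) (by
      rw [Subgroup.card_map_of_injective M.subtype_injective]; exact CfsgLib.card_pPrimeCore_coprime p)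
    haveI : Group.IsNilpotent Y :=
      Group.nilpotent_of_mulEquiv (Y.equivMapOfInjective M.subtype M.subtype_injective).symm
    obtain ⟨T⟩ : Nonempty (Sylow 2 Y) := inferInstance
    haveI : (T : Subgroup Y).Normal := T.normal_of_normalizerCondition Group.normalizerCondition_of_isNilpotent
    haveI := T.characteristic_of_normal inferInstance
    haveI : ((T : Subgroup Y).map Y.subtype).Normal := ConjAct.normal_of_characteristic_of_normal
    have h1 := le_pCore (T.2.map Y.subtype)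
    rw [hcore, le_bot_iff, Subgroup.map_eq_bot_iff_of_injective _ Y.subtype_injective] at h1
    have h2 := T.dvd_card_of_dvd_card h
    rw [h1, Subgroup.card_bot] at h2
    omega
  obtain ⟨z, hzM, hz, a, ha1, ha⟩ := c.exists_involution_index
  obtain ⟨u, hu, huM⟩ := c.exists_outside
  obtain ⟨hxM, ⟨kx, hkx⟩, hx1, hodd, hRp, hnorm⟩ := c.prod_facts hz hzM hu huM
  obtain ⟨P'⟩ : Nonempty (Sylow p M) := inferInstance
  set P₀ := (P' : Subgroup M).map M.subtype
  have hP₀p : IsPGroup p P₀ := P'.2.map _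
  have hP₀M : P₀ ≤ M := Subgroup.map_subtype_le _
  have hpM : p ∣ Nat.card M := by
    have h1 : (centralizer ({z} : Set G)).relIndex M ∣ Nat.card M := Subgroup.index_dvd_card _
    exact (dvd_pow_self p (by omega : a ≠ 0)).trans (ha ▸ h1)
  have hP₀1 : P₀ ≠ ⊥ := fun e => by
    have h1 := P'.dvd_card_of_dvd_card hpM
    rw [(Subgroup.map_eq_bot_iff_of_injective _ M.subtype_injective).1 e, Subgroup.card_bot] at h1
    exact c.set.prime.one_lt.ne' (Nat.dvd_one.1 h1)
  set Z := ZJ.zj 0 P₀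
  have hZ1 : Z ≠ ⊥ := ZJ.zj_ne_bot (p := p) (Or.inl rfl) hP₀p hP₀1
  set L := normalizer (Z : Set G)
  -- the factorisation of `M`
  haveI : Group.IsSolvable (M ⧸ Y) := Group.isSolvable_of_surjective (QuotientGroup.mk'_surjective Y)
  have h5 : 5 ≤ p := by
    have h4 := c.set.three_lt
    by_contra hlt
    have hp4 : p = 4 := by omega
    have := c.set.prime
    rw [hp4] at this
    exact absurd this (by decide)
  have hfac := StrongFusion.sup_normalizer_zj_of_closed (G := M) c.set.ne_two (e := 0) (Or.inl rfl)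
    CfsgLib.PairSol.isPConstrained (CfsgLib.PairSol.quadStable h5)
    P' (Q := (P' : Subgroup M)) ⟨le_rfl, fun _ _ _ hg => hg⟩
  set NM := normalizer (ZJ.zj 0 (P' : Subgroup M) : Set M)
  have hNML : NM.map M.subtype ≤ L := by
    refine (Subgroup.le_normalizer_map M.subtype).trans ?_
    rw [← ZJ.zj_map 0 M.subtype_injective]
  have hNMidx : ¬ 2 ∣ NM.index := by
    intro h
    have h1 : NM.index ∣ Nat.card Y := by
      have h2 := CfsgLib.TIHall.card_sup_dvd_of_le_normalizer (X := NM) (Y := Y) (by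
        rw [Subgroup.normalizer_eq_top]; exact le_top)
      rw [sup_comm, hfac, Subgroup.card_top, ← Subgroup.index_mul_card NM, mul_comm (Nat.card NM)] at h2
      exact Nat.dvd_of_mul_dvd_mul_right Nat.card_pos h2
    exact hYodd (h.trans h1)
  -- a four-group of `M` in `L`
  obtain ⟨V, hVC, hV, hV4⟩ := c.exists_four_centralizer hz
  obtain ⟨TV, hTV⟩ := ((Signalizer.isPGroup_ea hV).comap_of_injective M.subtype M.subtype_injective).exists_le_sylow (p := 2)
  obtain ⟨TN⟩ : Nonempty (Sylow 2 NM) := inferInstance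
  have hTNidx : ¬ 2 ∣ ((TN : Subgroup NM).map NM.subtype).index := by
    rw [← Subgroup.relIndex_top_right, ← Subgroup.relIndex_mul_relIndex _ NM ⊤ (Subgroup.map_subtype_le _) le_top,
      Subgroup.relIndex_top_right]
    intro h
    rcases Nat.prime_two.dvd_mul.1 h with h | h
    · rw [Subgroup.relIndex, Subgroup.subgroupOf, Subgroup.comap_map_eq_self_of_injective NM.subtype_injective] at h
      exact TN.not_dvd_index h
    · exact hNMidx h
  obtain ⟨g, hg⟩ := MulAction.exists_smul_eq M TV ((TN.2.map NM.subtype).toSylow hTNidx)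
  set V' := V.map (MulAut.conj (g : G)).toMonoidHom
  have hV'N : V' ≤ NM.map M.subtype := by
    rintro _ ⟨v, hv, rfl⟩
    have hvM : v ∈ M := c.centralizer_le_M hz hzM (hVC hv)
    have h1 : g * ⟨v, hvM⟩ * g⁻¹ ∈ (((TN.2.map NM.subtype).toSylow hTNidx : Sylow 2 M) : Subgroup M) := by
      rw [← hg]
      exact ⟨⟨v, hvM⟩, hTV hv, rfl⟩
    exact ⟨_, Subgroup.map_subtype_le _ h1, rfl⟩
  have hLne : L ≠ ⊤ := c.set.normalizer_ne_top hZ1 (c.set.ne_top_of_isPGroup (hP₀p.to_le (ZJ.zj_le 0 P₀)))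
  have hLM : L ≤ M := c.le_of_four hLne (hV'N.trans hNML) (hV'N.trans (Subgroup.map_subtype_le _)) (ea_map hV _)
    (by rw [card_map_conj]; exact hV4)
  -- `P₀` is a Sylow subgroup
  obtain ⟨P, hP⟩ := hP₀p.exists_le_sylow
  have hPeq : (P : Subgroup G) = P₀ := by
    refine (Classical.byContradiction fun hne => ?_ : (P : Subgroup G) = P₀)
    have hlt : P₀ < (P : Subgroup G) := lt_of_le_of_ne hP fun e => hne e.symm
    haveI := P.2.isNilpotent
    have hN := Group.normalizerCondition_of_isNilpotent (G := (P : Subgroup G)) (P₀.subgroupOf P) (by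
      rw [lt_top_iff_ne_top, Ne, Subgroup.subgroupOf_eq_top]
      exact hlt.not_ge)
    obtain ⟨w, hwN, hwS⟩ := SetLike.exists_of_lt hN
    have hw : (w : G) ∈ normalizer (P₀ : Set G) := CfsgLib.Comp.mem_normalizer_of_maps fun v hv =>
      (mem_normalizer_iff.1 hwN ⟨v, hP hv⟩).1 hv
    have hwM : (w : G) ∈ M := hLM (ZJ.normalizer_le_normalizer_zj 0 P₀ hw)
    refine hwS (Subgroup.mem_subgroupOf.2 ⟨⟨w, hwM⟩, ?_, rfl⟩)
    have hle : (P' : Subgroup M) ≤ (P : Subgroup G).subgroupOf M := fun y hy =>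
      Subgroup.mem_subgroupOf.2 (hP ⟨y, hy, rfl⟩)
    rw [← P'.3 (P.2.comap_of_injective M.subtype M.subtype_injective) hle]
    exact Subgroup.mem_subgroupOf.2 w.2
  -- move the product into `P`
  set x := z * u
  have hxp : IsPGroup p (zpowers x) := IsPGroup.of_card (n := kx) (by rw [Nat.card_zpowers, hkx])
  obtain ⟨Q, hQ⟩ := hxp.exists_le_sylow
  obtain ⟨h, hh⟩ := MulAction.exists_smul_eq G Q P
  set x' := h * x * h⁻¹ with hx'
  have hx'P : x' ∈ (P : Subgroup G) := by rw [← hh]; exact ⟨x, hQ (mem_zpowers x), rfl⟩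
  set z' := h * z * h⁻¹ with hz'
  have hinv : z' * x' * z'⁻¹ = x'⁻¹ := by
    rw [hz', hx']
    calc h * z * h⁻¹ * (h * x * h⁻¹) * (h * z * h⁻¹)⁻¹ = h * (z * x * z⁻¹) * h⁻¹ := by group
      _ = h * x⁻¹ * h⁻¹ := by rw [show z * x * z⁻¹ = x⁻¹ from prod_inverted hz hu]
      _ = (h * x * h⁻¹)⁻¹ := by group
  obtain ⟨-, hctl⟩ := CfsgLib.PStableControl.controls_centerThompson (p := p) c.set.ne_two
    c.set.isNormalizerPStable P (A := {x'}) (Set.singleton_subset_iff.2 hx'P)
  obtain ⟨n, hn, hne⟩ := hctl z' (by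
    rintro _ ⟨_, rfl, rfl⟩
    show z' * x' * z'⁻¹ ∈ (P : Subgroup G)
    rw [hinv]
    exact inv_mem hx'P)
  have hnM : n ∈ M := by
    rw [hPeq, ← ZJ.zj_zero] at hn
    exact hLM hn
  have hninv : n * x' * n⁻¹ = x'⁻¹ := by rw [← hne x' rfl, hinv]
  -- an involution of `M` inverting `x'`
  obtain ⟨i, o, ho, heo⟩ := Nat.exists_eq_pow_mul_and_not_dvd (orderOf_pos n).ne' 2 (by norm_num)
  set t := n ^ o with ht
  obtain ⟨j, hj⟩ : Odd o := Nat.odd_iff.2 (by omega)
  have hsq : (n * n) * x' * (n * n)⁻¹ = x' := by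
    calc (n * n) * x' * (n * n)⁻¹ = n * (n * x' * n⁻¹) * n⁻¹ := by group
      _ = n * x'⁻¹ * n⁻¹ := by rw [hninv]
      _ = (n * x' * n⁻¹)⁻¹ := by group
      _ = x' := by rw [hninv, inv_inv]
  have hsqj : ∀ j : ℕ, (n * n) ^ j * x' * ((n * n) ^ j)⁻¹ = x' := fun j => by
    have h1 : Commute (n * n) x' := mul_inv_eq_iff_eq_mul.1 hsq
    rw [(h1.pow_left j).eq, mul_inv_cancel_right]
  have htinv : t * x' * t⁻¹ = x'⁻¹ := by
    rw [ht, hj, pow_succ', pow_mul, pow_two]
    calc n * (n * n) ^ j * x' * (n * (n * n) ^ j)⁻¹ = n * ((n * n) ^ j * x' * ((n * n) ^ j)⁻¹) * n⁻¹ := by group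
      _ = x'⁻¹ := by rw [hsqj, hninv]
  set R' := centralizer ({x'} : Set G)
  have hR'odd : Odd (Nat.card R') := by
    have e : R' = (centralizer ({x} : Set G)).map (MulAut.conj h).toMonoidHom := by
      ext w
      rw [Local.mem_map_conj, mem_centralizer_singleton_iff, mem_centralizer_singleton_iff, hx']
      constructor
      · intro h1
        calc h⁻¹ * w * h * x = h⁻¹ * (w * (h * x * h⁻¹)) * h := by group
          _ = _ := by rw [h1]; group
      · intro h1
        calc w * (h * x * h⁻¹) = h * ((h⁻¹ * w * h) * x) * h⁻¹ := by group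
          _ = _ := by rw [h1]; group
    rw [e, card_map_conj]
    exact hodd
  have ht2 : t * t = 1 := by
    have h1 : t * t ∈ R' := mem_centralizer_singleton_iff.2 (by
      have h2 : (t * t) * x' * (t * t)⁻¹ = x' := by
        calc (t * t) * x' * (t * t)⁻¹ = t * (t * x' * t⁻¹) * t⁻¹ := by group
          _ = t * x'⁻¹ * t⁻¹ := by rw [htinv]
          _ = (t * x' * t⁻¹)⁻¹ := by group
          _ = x' := by rw [htinv, inv_inv]
      exact mul_inv_eq_iff_eq_mul.1 h2)
    have h3 : (t * t) ^ 2 ^ i = 1 := by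
      rw [ht, ← pow_add, ← pow_mul, show (o + o) * 2 ^ i = orderOf n * 2 by rw [heo]; ring, pow_mul,
        pow_orderOf_eq_one, one_pow]
    exact orderOf_eq_one_iff.1 (Nat.eq_one_of_dvd_coprimes ((Nat.coprime_two_right.2 hR'odd).pow_right _)
      (Subgroup.orderOf_dvd_natCard R' h1) (orderOf_dvd_of_pow_eq_one h3))
  -- move back
  set t₀ := h⁻¹ * t * h with ht₀
  have ht₀2 : t₀ * t₀ = 1 := by
    calc t₀ * t₀ = h⁻¹ * (t * t) * h := by rw [ht₀]; group
      _ = 1 := by rw [ht2, mul_one, inv_mul_cancel]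
  have ht₀inv : t₀ * x * t₀⁻¹ = x⁻¹ := by
    calc t₀ * x * t₀⁻¹ = h⁻¹ * (t * x' * t⁻¹) * h := by rw [ht₀, hx']; group
      _ = x⁻¹ := by rw [htinv, hx']; group
  have hxodd : Odd (orderOf x) := c.odd_prod hz hzM hu huM
  have ht₀1 : t₀ ≠ 1 := fun e => by
    rw [e, one_mul, inv_one, mul_one] at ht₀inv
    have h1 : x ^ 2 = 1 := by rw [pow_two]; exact mul_eq_one_iff_eq_inv.2 ht₀inv
    exact hx1 (orderOf_eq_one_iff.1 (Nat.eq_one_of_dvd_coprimes (Nat.coprime_two_right.2 hxodd) dvd_rfl
      (orderOf_dvd_of_pow_eq_one h1)))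
  have hzt : z * t₀ ∈ centralizer ({x} : Set G) := mem_centralizer_singleton_iff.2 (by
    have h1 : z * t₀ * x * (z * t₀)⁻¹ = x := by
      calc z * t₀ * x * (z * t₀)⁻¹ = z * (t₀ * x * t₀⁻¹) * z⁻¹ := by group
        _ = (z * x * z⁻¹)⁻¹ := by rw [ht₀inv]; group
        _ = x := by rw [prod_inverted hz hu, inv_inv]
    exact mul_inv_eq_iff_eq_mul.1 h1)
  obtain ⟨j', hj'⟩ := (hodd.of_dvd_nat (Subgroup.orderOf_dvd_natCard _ hzt))
  -- the conjugating element centralizes `x`
  have hzz := sq_of_involution hz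
  set d := ((z * t₀) ^ (j' + 1)) with hd
  have hdR : d ∈ centralizer ({x} : Set G) := Subgroup.pow_mem _ hzt _
  have hdconj : d * t₀ * d⁻¹ = z := by
    have hsw : ∀ k : ℕ, t₀ * ((z * t₀) ^ k)⁻¹ = (z * t₀) ^ k * t₀ := by
      intro k
      have h1 : t₀ * (z * t₀)⁻¹ * t₀⁻¹ = z * t₀ := by
        rw [mul_inv_rev, inv_eq_of_mul_eq_one_right ht₀2, inv_of_involution hz]
        calc t₀ * (t₀ * z) * t₀ = (t₀ * t₀) * z * t₀ := by group
          _ = z * t₀ := by rw [ht₀2, one_mul]
      have h2 : t₀ * ((z * t₀) ^ k)⁻¹ * t₀⁻¹ = (z * t₀) ^ k := by rw [← inv_pow, ← conj_pow, h1]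
      exact mul_inv_eq_iff_eq_mul.1 h2
    rw [hd, mul_assoc, hsw, ← mul_assoc, ← pow_add, show j' + 1 + (j' + 1) = (2 * j' + 1) + 1 by ring, ← hj',
      pow_succ, pow_orderOf_eq_one, one_mul, mul_assoc, ht₀2, mul_one]
  -- `d h⁻¹` conjugates the involution `t` of `M` to `z`
  have hmem : d * h⁻¹ ∈ M := c.mem_of_conj (orderOf_eq_prime (by rw [pow_two, ht2]) (fun e => ht₀1 (by show h⁻¹ * n ^ o * h = 1; rw [e, mul_one, inv_mul_cancel])))
    (M.pow_mem hnM _) (by
      rw [show d * h⁻¹ * t * (d * h⁻¹)⁻¹ = d * (h⁻¹ * t * h) * d⁻¹ by group, ← ht₀, hdconj]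
      exact hzM)
  refine hxM ?_
  have hx'M : x' ∈ M := hP₀M (hPeq.le hx'P)
  have h9 := mul_mem (mul_mem hmem hx'M) (inv_mem hmem)
  have h10 : d * h⁻¹ * x' * (d * h⁻¹)⁻¹ = x := by
    rw [hx', show d * h⁻¹ * (h * x * h⁻¹) * (d * h⁻¹)⁻¹ = d * x * d⁻¹ by group,
      mem_centralizer_singleton_iff.1 hdR, mul_inv_cancel_right]
  rwa [h10] at h9

theorem Setting.false (hS : Setting p G) : False := by
  obtain ⟨M, S, E, hM, hES, hE, hE8⟩ := hS.exists_embedded
  have c : Config p M S E := ⟨hS, hM, hES, hE, hE8⟩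
  by_cases h : pCore 2 M = ⊥
  · exact c.false_of_pCore_eq_bot h
  · exact c.false_of_pCore h

/-- All subgroups of order prime to `p > 3` nilpotent implies solvable. -/
theorem isSolvable (hp : p.Prime) (hp3 : 3 < p) : ∀ (n : ℕ) (G : Type u) [Group G] [Finite G], Nat.card G = n →
    (∀ H : Subgroup G, (Nat.card H).Coprime p → Group.IsNilpotent H) → Group.IsSolvable G := by
  intro n
  induction n using Nat.strong_induction_on with
  | _ n ih =>
  intro G _ _ hn h
  haveI := Fact.mk hp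
  have hsub : ∀ (K : Subgroup G), (∀ H : Subgroup K, (Nat.card H).Coprime p → Group.IsNilpotent H) := by
    intro K H hH
    haveI := h (H.map K.subtype) (by rwa [Subgroup.card_map_of_injective K.subtype_injective])
    exact Group.nilpotent_of_mulEquiv (H.equivMapOfInjective K.subtype K.subtype_injective).symm
  have hprop : ∀ K : Subgroup G, K ≠ ⊤ → Group.IsSolvable K := fun K hK => ih _ (hn ▸ lt_of_le_of_ne
    (Subgroup.card_le_card_group K) fun e => hK (Subgroup.eq_top_of_card_eq K e)) K rfl (hsub K)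
  by_contra hns
  by_cases hsimple : ∃ N : Subgroup G, N.Normal ∧ N ≠ ⊥ ∧ N ≠ ⊤
  swap
  · push Not at hsimple
    haveI : Nontrivial G := not_subsingleton_iff_nontrivial.1 fun hs =>
      hns (Group.isSolvable_of_comm fun a b => Subsingleton.elim _ _)
    haveI hsg : IsSimpleGroup G := ⟨fun N hN => or_iff_not_imp_left.2 fun hN1 => hsimple N hN hN1⟩
    exact Setting.false ⟨hp, hp3, hsg, hns, hprop, h⟩
  obtain ⟨N, hN, hN1, hN2⟩ := hsimple
  haveI := hprop N hN2
  refine hns (CfsgLib.PairSol.isSolvable_of_quotient N inferInstance ?_)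
  -- subgroups of the quotient
  refine ih _ ?_ (G ⧸ N) rfl fun Hb hHb => ?_
  · rw [← hn, Subgroup.card_eq_card_quotient_mul_card_subgroup N]
    refine lt_mul_of_one_lt_right Nat.card_pos ?_
    haveI : Nontrivial N := (Subgroup.nontrivial_iff_ne_bot N).2 hN1
    exact Finite.one_lt_card
  set π := QuotientGroup.mk' N
  have key : ∀ K : Subgroup G, Group.IsSolvable K → K.map π = Hb → Group.IsNilpotent Hb := by
    intro K hK hKb
    obtain ⟨H, -, hHK, hHp, k, hk⟩ := exists_hall (p := p) hK (A := ⊥) bot_le (by simp)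
    haveI := h H hHp
    let f : H →* Hb := (π.comp H.subtype).codRestrict Hb fun x => hKb ▸ ⟨x, hHK x.2, rfl⟩
    have hf : Function.Surjective f := by
      rw [← MonoidHom.range_eq_top]
      refine Subgroup.index_eq_one.1 (Nat.eq_one_of_dvd_coprimes (hHb.pow_right k) (Subgroup.index_dvd_card _) ?_)
      let g : K →* Hb := (π.comp K.subtype).codRestrict Hb fun x => hKb ▸ ⟨x, x.2, rfl⟩
      have hg : Function.Surjective g := by
        rintro ⟨y, hy⟩
        obtain ⟨x, hx, rfl⟩ := hKb.ge hy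
        exact ⟨⟨x, hx⟩, rfl⟩
      have h1 : f.range = (H.subgroupOf K).map g := by
        ext y
        constructor
        · rintro ⟨x, rfl⟩
          exact ⟨⟨x, hHK x.2⟩, x.2, rfl⟩
        · rintro ⟨⟨x, hxK⟩, hx, rfl⟩
          exact ⟨⟨x, hx⟩, rfl⟩
      have h3 : (H.subgroupOf K).index = p ^ k := by
        have := Subgroup.index_mul_card (H.subgroupOf K)
        rw [Nat.card_congr (subgroupOfEquivOfLe hHK).toEquiv, hk, mul_comm _ (p ^ k)] at this
        exact Nat.eq_of_mul_eq_mul_right Nat.card_pos this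
      exact h1 ▸ h3 ▸ Subgroup.index_map_dvd _ hg
    exact Group.nilpotent_of_surjective f hf
  by_cases hHt : Hb.comap π = ⊤
  swap
  · exact key _ (hprop _ hHt) (Subgroup.map_comap_eq_self_of_surjective (QuotientGroup.mk'_surjective N) Hb)
  -- the quotient has order prime to `p`
  have hHbtop : Hb = ⊤ := by
    rw [← Subgroup.map_comap_eq_self_of_surjective (QuotientGroup.mk'_surjective N) Hb, hHt,
      Subgroup.map_top_of_surjective _ (QuotientGroup.mk'_surjective N)]
  obtain ⟨P⟩ : Nonempty (Sylow p N) := inferInstance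
  have hfr := Sylow.normalizer_sup_eq_top P
  set P₀ := (P : Subgroup N).map N.subtype
  by_cases hP0 : normalizer (P₀ : Set G) = ⊤
  swap
  · refine key _ (hprop _ hP0) ?_
    rw [hHbtop, ← Subgroup.map_top_of_surjective π (QuotientGroup.mk'_surjective N), ← hfr, Subgroup.map_sup,
      (Subgroup.map_eq_bot_iff N).2 (le_of_eq (QuotientGroup.ker_mk' N).symm), sup_bot_eq]
  haveI hP0n : P₀.Normal := normalizer_eq_top_iff.1 hP0
  have hquot : (Nat.card (G ⧸ N)).Coprime p := by
    rwa [hHbtop, Subgroup.card_top] at hHb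
  have hidx : ¬ p ∣ P₀.index := by
    intro hd
    have h1 := Subgroup.relIndex_mul_index (Subgroup.map_subtype_le (P : Subgroup N) : P₀ ≤ N)
    rw [← h1] at hd
    rcases hp.dvd_mul.1 hd with h2 | h2
    · rw [Subgroup.relIndex, Subgroup.subgroupOf, Subgroup.comap_map_eq_self_of_injective N.subtype_injective] at h2
      exact P.not_dvd_index h2
    · rw [Subgroup.index_eq_card] at h2
      exact hp.one_lt.ne' (Nat.eq_one_of_dvd_coprimes hquot.symm dvd_rfl h2)
  have hcopP : (Nat.card P₀).Coprime P₀.index := by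
    obtain ⟨j, hj⟩ := IsPGroup.iff_card.1 (P.2.map N.subtype)
    rw [show Nat.card P₀ = p ^ j from hj]
    exact ((hp.coprime_iff_not_dvd.2 hidx).pow_left j)
  obtain ⟨K, hK⟩ := Subgroup.exists_right_complement'_of_coprime hcopP
  have hKc : (Nat.card K).Coprime p := by
    rw [show Nat.card K = P₀.index from (hK.symm.index_eq_card).symm]
    exact (hp.coprime_iff_not_dvd.2 hidx).symm
  haveI := h K hKc
  have hPN : P₀ ≤ N := Subgroup.map_subtype_le _
  let f : K →* Hb := (π.comp K.subtype).codRestrict Hb fun x => by rw [hHbtop]; trivial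
  refine Group.nilpotent_of_surjective f ?_
  rintro ⟨y, hy⟩
  obtain ⟨g, rfl⟩ := QuotientGroup.mk'_surjective N y
  obtain ⟨q, hq, w, hw, rfl⟩ := Subgroup.mem_sup_of_normal_left.1 (hK.sup_eq_top.ge (mem_top g))
  refine ⟨⟨w, hw⟩, Subtype.ext ?_⟩
  show π w = π (q * w)
  rw [map_mul, show π q = 1 from (QuotientGroup.eq_one_iff q).2 (hPN hq), one_mul]

end CfsgLib.PNilHall
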