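import Cfsg.Agent.Lib.PNilHall.Exists
import Cfsg.Agent.Lib.SmallRep.Complex
import Cfsg.Agent.Lib.Elementary

/-!
The strongly embedded subgroup of a minimal counterexample: uniqueness, transitivity, and the
centralizers of products of two involutions.
-/

set_option autoImplicit false
set_option maxHeartbeats 800000
set_option linter.unusedSectionVars false
set_option linter.style.haveILetI false

namespace CfsgLib.PNilHall

open Subgroup Cfsg CfsgLib.StronglyEmbedded
open scoped Pointwise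

universe u

variable {G : Type u} [Group G] [Finite G] {p : ℕ}

/-- The configuration: a strongly embedded subgroup and 2-rank at least three. -/
structure Config (p : ℕ) (M : Subgroup G) (S : Sylow 2 G) (E : Subgroup G) : Prop where
  set : Setting p G
  emb : IsStronglyPEmbedded 2 M
  hES : E ≤ (S : Subgroup G)
  hE : IsElementaryAbelian 2 E
  card : 8 ≤ Nat.card E

variable {M : Subgroup G} {S : Sylow 2 G} {E : Subgroup G}

theorem Config.ne_top (c : Config p M S E) : M ≠ ⊤ := c.emb.2.1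

theorem Config.solM (c : Config p M S E) : Group.IsSolvable M := c.set.sol M c.ne_top

theorem sq_of_involution {t : G} (ht : orderOf t = 2) : t * t = 1 := by
  rw [← pow_two, ← ht, pow_orderOf_eq_one]

theorem ne_one_of_involution {t : G} (ht : orderOf t = 2) : t ≠ 1 := fun e => by
  rw [e, orderOf_one] at ht; norm_num at ht

theorem inv_of_involution {t : G} (ht : orderOf t = 2) : t⁻¹ = t :=
  inv_eq_of_mul_eq_one_right (sq_of_involution ht)

/-- The centre of a nontrivial 2-group contains an involution. -/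
theorem exists_central_involution {T : Subgroup G} (hT : IsPGroup 2 T) (hT1 : T ≠ ⊥) :
    ∃ q ∈ T, orderOf q = 2 ∧ ∀ t ∈ T, t * q = q * t := by
  haveI := Fact.mk Nat.prime_two
  haveI : Nontrivial T := (Subgroup.nontrivial_iff_ne_bot T).2 hT1
  haveI := hT.center_nontrivial
  obtain ⟨⟨⟨q, hqT⟩, hqc⟩, hq⟩ : ∃ c : Subgroup.center T, orderOf c = 2 := by
    refine exists_prime_orderOf_dvd_card' 2 ?_
    obtain ⟨k, hk⟩ := (hT.to_subgroup (Subgroup.center T)).exists_card_eq
    rw [hk]
    refine dvd_pow_self 2 fun e => ?_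
    rw [e, pow_zero] at hk
    exact (Finite.one_lt_card (α := Subgroup.center T)).ne' hk
  rw [Subgroup.orderOf_mk, Subgroup.orderOf_mk] at hq
  exact ⟨q, hqT, hq, fun t ht => congrArg Subtype.val (Subgroup.mem_center_iff.1 hqc ⟨t, ht⟩)⟩

theorem ea_map {V : Subgroup G} (hV : IsElementaryAbelian 2 V) (g : G) :
    IsElementaryAbelian 2 (V.map (MulAut.conj g).toMonoidHom : Subgroup G) := by
  refine CfsgLib.SolvSF.ea_of_comm ?_ ?_
  · rintro _ ⟨a, ha, rfl⟩ _ ⟨b, hb, rfl⟩
    rw [← map_mul, ← map_mul, Signalizer.ea_comm hV ha hb]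
  · rintro _ ⟨a, ha, rfl⟩
    rw [← map_pow, hV.2 a ha, map_one]

theorem card_map_conj (V : Subgroup G) (g : G) :
    Nat.card (V.map (MulAut.conj g).toMonoidHom : Subgroup G) = Nat.card V :=
  Subgroup.card_map_of_injective (MulAut.conj g).injective

/-- A 2-subgroup meeting `M` nontrivially lies in `M`. -/
theorem Config.two_le (c : Config p M S E) {T : Subgroup G} (hT : IsPGroup 2 T) (h : T ⊓ M ≠ ⊥) : T ≤ M := by
  haveI := Fact.mk Nat.prime_two
  by_contra hne
  have hlt : T ⊓ M < T := lt_of_le_of_ne inf_le_left fun e => hne (e ▸ inf_le_right)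
  exact (StrongEmbedS4.exists_bigger hT hlt).not_ge (le_inf inf_le_left
    (inf_le_right.trans (normalizer_le c.emb (hT.to_le inf_le_left) h inf_le_right)))

/-- A proper subgroup containing a four-group of `M` lies in `M`. -/
theorem Config.le_of_four (c : Config p M S E) {X V : Subgroup G} (hX : X ≠ ⊤) (hVX : V ≤ X) (hVM : V ≤ M)
    (hV : IsElementaryAbelian 2 V) (hV4 : 4 ≤ Nat.card V) : X ≤ M := by
  haveI := Fact.mk Nat.prime_two
  haveI := c.set.sol X hX
  have hV2 := CfsgLib.Signalizer.isPGroup_ea hV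
  set O := pPrimeCore 2 X
  set OG := O.map X.subtype
  have hOodd : ¬ 2 ∣ Nat.card OG := fun h => by
    rw [Subgroup.card_map_of_injective X.subtype_injective] at h
    exact CfsgLib.not_dvd_card_pPrimeCore Nat.prime_two h
  have hOM : OG ≤ M := by
    refine SolvSF.gen_le hV (by omega) hOodd (fun x hx => ?_) fun v hv hv1 =>
      inf_le_right.trans (centralizer_le c.emb (hVM hv) (Signalizer.orderOf_eq_prime_of_ea hV hv hv1))
    refine CfsgLib.Comp.mem_normalizer_of_maps ?_
    rintro _ ⟨o, ho, rfl⟩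
    exact ⟨⟨x, hVX hx⟩ * o * ⟨x, hVX hx⟩⁻¹, (inferInstance : O.Normal).conj_mem o ho _, rfl⟩
  obtain ⟨TX, hTX⟩ := (hV2.comap_of_injective X.subtype X.subtype_injective).exists_le_sylow (p := 2)
  set T := (TX : Subgroup X).map X.subtype
  have hVT : V ≤ T := fun v hv => ⟨⟨v, hVX hv⟩, hTX hv, rfl⟩
  have hTM : T ≤ M := c.two_le (TX.2.map _) fun e => by
    have h1 := Subgroup.card_le_of_le (le_inf hVT hVM)
    rw [e, Subgroup.card_bot] at h1
    omega
  set π := QuotientGroup.mk' O
  set K := pPrimePCore 2 X with hK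
  haveI : K.Normal := by rw [hK, pPrimePCore]; infer_instance
  obtain ⟨P, hP⟩ := PLocal.exists_sylow_inf TX K
  have hfr := Sylow.normalizer_sup_eq_top P
  rw [hP] at hfr
  set Qs := (TX : Subgroup X) ⊓ K
  have hKO : ∀ k ∈ K, ∃ o ∈ O, ∃ q ∈ Qs, k = o * q := by
    intro k hk
    have hc : pCore 2 (X ⧸ O) ≤ (TX : Subgroup X).map π := by
      rw [← Sylow.coe_mapSurjective (QuotientGroup.mk'_surjective O) TX]
      exact pCore_le_sylow _
    obtain ⟨q, hq, he⟩ := hc hk
    have hqK : q ∈ K := by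
      show π q ∈ pCore 2 (X ⧸ O)
      rw [he]; exact hk
    refine ⟨k * q⁻¹, (QuotientGroup.eq_one_iff _).1 (show π (k * q⁻¹) = 1 by
      rw [map_mul, map_inv, he]; exact mul_inv_cancel _), q, ⟨hq, hqK⟩, by group⟩
  have hKM : K.map X.subtype ≤ M := by
    rintro _ ⟨k, hk, rfl⟩
    obtain ⟨o, ho, q, hq, rfl⟩ := hKO k hk
    exact mul_mem (hOM ⟨o, ho, rfl⟩) (hTM ⟨q, hq.1, rfl⟩)
  have hQne : Qs.map X.subtype ≠ ⊥ := by
    intro e
    rw [Subgroup.map_eq_bot_iff_of_injective _ X.subtype_injective] at e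
    have hKle : K ≤ O := fun k hk => by
      obtain ⟨o, ho, q, hq, rfl⟩ := hKO k hk
      rw [e, Subgroup.mem_bot] at hq
      rw [hq, mul_one]
      exact ho
    have hcon := CfsgLib.centralizer_pCore_le (G := X ⧸ O) Nat.prime_two (CfsgLib.pPrimeCore_quotient_eq_bot 2)
    have hbot : pCore 2 (X ⧸ O) = ⊥ := by
      refine (Subgroup.eq_bot_iff_forall _).2 fun y hy => ?_
      obtain ⟨k, rfl⟩ := QuotientGroup.mk'_surjective O y
      exact (QuotientGroup.eq_one_iff k).2 (hKle hy)
    have hall : ∀ k : X, k ∈ O := fun k => by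
      refine (QuotientGroup.eq_one_iff k).1 ?_
      rw [← Subgroup.mem_bot, ← hbot]
      exact hcon fun w hw => by
        rw [hbot, SetLike.mem_coe, Subgroup.mem_bot] at hw
        rw [hw, one_mul, mul_one]
    refine hOodd ?_
    have h1 : Nat.card V ∣ Nat.card OG := Subgroup.card_dvd_of_le fun v hv => ⟨⟨v, hVX hv⟩, hall _, rfl⟩
    obtain ⟨i, hi⟩ := IsPGroup.iff_card.1 hV2
    rcases i with _ | i
    · rw [hi, pow_zero] at hV4; omega
    exact (dvd_pow_self 2 i.succ_ne_zero).trans (hi ▸ h1)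
  intro g hg
  obtain ⟨n, hn, k, hk, he⟩ := Subgroup.mem_sup_of_normal_right.1
    (hfr ▸ mem_top (⟨g, hg⟩ : X) : (⟨g, hg⟩ : X) ∈ normalizer (Qs : Set X) ⊔ K)
  rw [show g = (n : G) * k from congrArg Subtype.val he.symm]
  exact mul_mem (normalizer_le c.emb (TX.2.to_le inf_le_left |>.map _) hQne
    ((Subgroup.map_mono inf_le_left).trans hTM) (Subgroup.le_normalizer_map X.subtype ⟨n, hn, rfl⟩))
    (hKM ⟨k, hk, rfl⟩)

theorem Config.mem_of_conj (c : Config p M S E) {z g : G} (hz : orderOf z = 2) (hzM : z ∈ M)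
    (hg : g * z * g⁻¹ ∈ M) : g ∈ M := by
  haveI := Fact.mk Nat.prime_two
  refine mem_of_conj_le c.emb (isPGroup_zpowers hz) (zpowers_ne_bot hz) (zpowers_le.2 hzM) fun a ha => ?_
  obtain ⟨k, rfl⟩ := mem_zpowers_iff.1 ha
  rw [← conj_zpow]
  exact M.zpow_mem hg k

theorem Config.centralizer_le_M (c : Config p M S E) {z : G} (hz : orderOf z = 2) (hzM : z ∈ M) :
    centralizer ({z} : Set G) ≤ M := by
  haveI := Fact.mk Nat.prime_two
  exact centralizer_le c.emb hzM hz

theorem Config.exists_involution (c : Config p M S E) : ∃ z ∈ M, orderOf z = 2 := by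
  haveI := Fact.mk Nat.prime_two
  exact StronglyEmbedded.exists_orderOf_eq (dvd_card_of c.emb)

theorem Config.exists_outside (c : Config p M S E) : ∃ u, orderOf u = 2 ∧ u ∉ M := by
  obtain ⟨z, hzM, hz⟩ := c.exists_involution
  by_contra h
  push Not at h
  refine c.ne_top (eq_top_iff.2 fun g _ => c.mem_of_conj hz hzM (h _ ?_))
  rw [ZStar.orderOf_conj, hz]

/-- An involution inside and one outside have a product of odd order. -/
theorem Config.odd_prod (c : Config p M S E) {z u : G} (hz : orderOf z = 2) (hzM : z ∈ M) (hu : orderOf u = 2)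
    (huM : u ∉ M) : Odd (orderOf (z * u)) := by
  refine Nat.not_even_iff_odd.1 fun heven => huM ?_
  obtain ⟨h1, h2⟩ := CfsgLib.Involutions.central_half (sq_of_involution hz) (sq_of_involution hu) heven
  have hi := CfsgLib.Involutions.orderOf_half (x := z) (y := u) heven
  have hiM : (z * u) ^ (orderOf (z * u) / 2) ∈ M :=
    c.centralizer_le_M hz hzM (mem_centralizer_singleton_iff.2 (by first | exact h1.eq | exact h1.eq.symm))
  exact c.centralizer_le_M hi hiM (mem_centralizer_singleton_iff.2 (by first | exact h2.eq | exact h2.eq.symm))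

/-- `M` is transitive on its involutions. -/
theorem Config.transitive (c : Config p M S E) {t t' : G} (ht : orderOf t = 2) (htM : t ∈ M)
    (ht' : orderOf t' = 2) (htM' : t' ∈ M) : ∃ g ∈ M, g * t * g⁻¹ = t' := by
  obtain ⟨u, hu, huM⟩ := c.exists_outside
  obtain ⟨d, hd⟩ := CfsgLib.Involutions.exists_conj_eq_of_odd (sq_of_involution ht) (sq_of_involution hu)
    (c.odd_prod ht htM hu huM)
  obtain ⟨e, he⟩ := CfsgLib.Involutions.exists_conj_eq_of_odd (sq_of_involution ht') (sq_of_involution hu)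
    (c.odd_prod ht' htM' hu huM)
  have h1 : ∃ g, g * t * g⁻¹ = t' := by
    refine ⟨e⁻¹ * d, ?_⟩
    have h2 : d * t * d⁻¹ = e * t' * e⁻¹ := by rw [hd.2, he.2]
    calc e⁻¹ * d * t * (e⁻¹ * d)⁻¹ = e⁻¹ * (d * t * d⁻¹) * e := by group
      _ = t' := by rw [h2]; group
  obtain ⟨g, hg⟩ := h1
  exact ⟨g, c.mem_of_conj ht htM (hg ▸ htM'), hg⟩

/-- The centralizer of an involution contains a four-group. -/
theorem Config.exists_four_centralizer (c : Config p M S E) {z : G} (hz : orderOf z = 2) :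
    ∃ V ≤ centralizer ({z} : Set G), IsElementaryAbelian 2 V ∧ 4 ≤ Nat.card V := by
  haveI := Fact.mk Nat.prime_two
  obtain ⟨Q, hQ⟩ := (StronglyEmbedded.isPGroup_zpowers hz).exists_le_sylow
  obtain ⟨g, hg⟩ := MulAction.exists_smul_eq G S Q
  have hEQ : E.map (MulAut.conj g).toMonoidHom ≤ (Q : Subgroup G) := by
    rw [← hg]; exact Subgroup.map_mono c.hES
  have hzQ : z ∈ (Q : Subgroup G) := hQ (mem_zpowers z)
  obtain ⟨w, hwQ, hw, hwc⟩ := exists_central_involution Q.2 fun e => by
    rw [e, Subgroup.mem_bot] at hzQ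
    exact ne_one_of_involution hz hzQ
  by_cases hwz : w = z
  · subst hwz
    refine ⟨_, fun v hv => mem_centralizer_singleton_iff.2 (hwc v (hEQ hv)), ea_map c.hE g, ?_⟩
    rw [card_map_conj]
    have := c.card
    omega
  set V : Subgroup G := closure {z, w}
  have hVc : IsMulCommutative V := Subgroup.isMulCommutative_closure (by
    rintro a (rfl | rfl) b (rfl | rfl)
    · rfl
    · exact hwc _ hzQ
    · exact (hwc _ hzQ).symm
    · rfl)
  have hV : IsElementaryAbelian 2 V := by
    refine CfsgLib.SolvSF.ea_of_comm (fun a ha b hb => congrArg Subtype.val (hVc.is_comm.comm ⟨a, ha⟩ ⟨b, hb⟩)) ?_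
    intro a ha
    induction ha using Subgroup.closure_induction with
    | mem a ha =>
      rcases ha with rfl | rfl
      · rw [pow_two, sq_of_involution hz]
      · rw [pow_two, sq_of_involution hw]
    | one => exact one_pow 2
    | mul a b ha hb iha ihb =>
      rw [(show Commute a b from congrArg Subtype.val (hVc.is_comm.comm ⟨a, ha⟩ ⟨b, hb⟩)).mul_pow, iha, ihb,
        one_mul]
    | inv a ha iha => rw [inv_pow, iha, inv_one]
  have hzV : z ∈ V := subset_closure (by simp)
  refine ⟨V, fun v hv => mem_centralizer_singleton_iff.2 (Signalizer.ea_comm hV hv hzV), hV, ?_⟩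
  have hlt : zpowers z < V := lt_of_le_of_ne (zpowers_le.2 hzV) fun e => by
    obtain ⟨i, hi⟩ := mem_zpowers_iff.1 (e ▸ subset_closure (by simp) : w ∈ zpowers z)
    rcases Int.even_or_odd i with ⟨j, rfl⟩ | ⟨j, rfl⟩
    · rw [← two_mul, zpow_mul, zpow_two, sq_of_involution hz, one_zpow] at hi
      exact ne_one_of_involution hw hi.symm
    · rw [zpow_add, zpow_one, zpow_mul, zpow_two, sq_of_involution hz, one_zpow, one_mul] at hi
      exact hwz hi.symm
  refine TwoLocalSignalizer.four_le_of_two_lt (Q.2.to_le ((Subgroup.closure_le _).2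
    (by rintro a (rfl | rfl) <;> assumption))) ?_
  have h2 : Nat.card (zpowers z) = 2 := by rw [Nat.card_zpowers, hz]
  exact lt_of_le_of_ne (h2 ▸ Subgroup.card_le_of_le hlt.le) fun e =>
    hlt.ne (Subgroup.eq_of_le_of_card_ge hlt.le (by rw [h2, e]))

/-- A nontrivial odd `p'`-element centralizing an involution of `M` has its centralizer in `M`. -/
theorem Config.centralizer_le_of_coprime (c : Config p M S E) {z y : G} (hz : orderOf z = 2) (hzM : z ∈ M)
    (hy : y * z = z * y) (hy1 : y ≠ 1) (hodd : Odd (orderOf y)) (hyp : (orderOf y).Coprime p) :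
    centralizer ({y} : Set G) ≤ M := by
  haveI := Fact.mk Nat.prime_two
  haveI := Fact.mk c.set.prime
  set C := centralizer ({z} : Set G)
  have hsol := c.set.sol C (c.set.centralizer_ne_top (ne_one_of_involution hz))
  obtain ⟨K, hyK, hKC, hKp, k, hk⟩ := exists_hall (p := p) hsol
    (A := zpowers y) (zpowers_le.2 (mem_centralizer_singleton_iff.2 hy)) (by rwa [Nat.card_zpowers])
  obtain ⟨V, hVC, hV, hV4⟩ := c.exists_four_centralizer hz
  obtain ⟨TK⟩ : Nonempty (Sylow 2 K) := inferInstance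
  set T := (TK : Subgroup K).map K.subtype
  have hTC : T ≤ C := (Subgroup.map_subtype_le _).trans hKC
  have hTidx : ¬ 2 ∣ (T.subgroupOf C).index := by
    rw [show (T.subgroupOf C).index = T.relIndex C from rfl,
      ← Subgroup.relIndex_mul_relIndex T K C (Subgroup.map_subtype_le _) hKC]
    intro h
    rcases Nat.prime_two.dvd_mul.1 h with h | h
    · rw [Subgroup.relIndex, Subgroup.subgroupOf, Subgroup.comap_map_eq_self_of_injective K.subtype_injective] at h
      exact TK.not_dvd_index h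
    · have h1 := Subgroup.index_mul_card (K.subgroupOf C)
      rw [Nat.card_congr (subgroupOfEquivOfLe hKC).toEquiv, hk, mul_comm (Nat.card K)] at h1
      rw [show K.relIndex C = p ^ k from Nat.eq_of_mul_eq_mul_right Nat.card_pos h1] at h
      exact c.set.ne_two ((Nat.prime_dvd_prime_iff_eq Nat.prime_two c.set.prime).1
        (Nat.prime_two.dvd_of_dvd_pow h)).symm
  set TC : Sylow 2 C := ((TK.2.map K.subtype).of_equiv (subgroupOfEquivOfLe hTC).symm).toSylow hTidx
  obtain ⟨TV, hTV⟩ := ((Signalizer.isPGroup_ea hV).comap_of_injective C.subtype C.subtype_injective).exists_le_sylow (p := 2)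
  obtain ⟨g, hg⟩ := MulAction.exists_smul_eq C TV TC
  have hV' : V.map (MulAut.conj (g : G)).toMonoidHom ≤ T := by
    rintro _ ⟨v, hv, rfl⟩
    have h1 : g * ⟨v, hVC hv⟩ * g⁻¹ ∈ (TC : Subgroup C) := by
      rw [← hg]
      exact ⟨⟨v, hVC hv⟩, hTV hv, rfl⟩
    exact h1
  have hnil := c.set.nil K hKp
  refine c.le_of_four (c.set.centralizer_ne_top hy1) (V := V.map (MulAut.conj (g : G)).toMonoidHom) ?_
    (hV'.trans (hTC.trans (c.centralizer_le_M hz hzM))) (ea_map hV _) (by rw [card_map_conj]; exact hV4)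
  intro v hv
  obtain ⟨j, hj⟩ := IsPGroup.iff_orderOf.1 (TK.2.map K.subtype) ⟨v, hV' hv⟩
  rw [Subgroup.orderOf_mk] at hj
  refine mem_centralizer_singleton_iff.2 ?_
  exact comm_of_nilpotent hnil (Subgroup.map_subtype_le _ (hV' hv)) (hyK (mem_zpowers y))
    (hj ▸ (Nat.coprime_two_left.2 hodd).pow_left j)

theorem prod_inverted {z u : G} (hz : orderOf z = 2) (hu : orderOf u = 2) :
    z * (z * u) * z⁻¹ = (z * u)⁻¹ :=
  CfsgLib.Involutions.conj_mul_eq_inv (sq_of_involution hz) (sq_of_involution hu)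

/-- The properties of the product of an involution of `M` and one outside. -/
theorem Config.prod_facts (c : Config p M S E) {z u : G} (hz : orderOf z = 2) (hzM : z ∈ M) (hu : orderOf u = 2)
    (huM : u ∉ M) : z * u ∉ M ∧ (∃ k, orderOf (z * u) = p ^ k) ∧ z * u ≠ 1 ∧
      Odd (Nat.card (centralizer ({z * u} : Set G))) ∧ IsPGroup p (centralizer ({z * u} : Set G)) ∧
      ∀ r ∈ centralizer ({z * u} : Set G), z * r * z⁻¹ ∈ centralizer ({z * u} : Set G) := by
  haveI := Fact.mk Nat.prime_two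
  set x := z * u with hx
  have hxM : x ∉ M := fun h => huM (by
    have := mul_mem hzM h
    rwa [hx, ← mul_assoc, sq_of_involution hz, one_mul] at this)
  have hzz := sq_of_involution hz
  have hodd := c.odd_prod hz hzM hu huM
  set R := centralizer ({x} : Set G)
  have hnorm : ∀ r ∈ R, z * r * z⁻¹ ∈ R := by
    intro r hr
    have h2 : z * x⁻¹ * z⁻¹ = x := by
      calc z * x⁻¹ * z⁻¹ = (z * x * z⁻¹)⁻¹ := by group
        _ = x := by rw [prod_inverted hz hu, inv_inv]
    have h1 : r * x⁻¹ = x⁻¹ * r :=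
      (Commute.inv_right (show Commute r x from mem_centralizer_singleton_iff.1 hr)).eq
    refine mem_centralizer_singleton_iff.2 ?_
    calc z * r * z⁻¹ * x = z * r * z⁻¹ * (z * x⁻¹ * z⁻¹) := by rw [h2]
      _ = z * (r * x⁻¹) * z⁻¹ := by group
      _ = z * (x⁻¹ * r) * z⁻¹ := by rw [h1]
      _ = (z * x⁻¹ * z⁻¹) * (z * r * z⁻¹) := by group
      _ = x * (z * r * z⁻¹) := by rw [h2]
  have hne : x ≠ 1 := fun e => hxM (e ▸ one_mem M)
  -- odd order
  have hRodd : Odd (Nat.card R) := by
    refine Nat.not_even_iff_odd.1 fun heven => hxM ?_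
    -- a `z`-fixed involution of `R`
    set N := R ⊔ zpowers z
    have hzN : zpowers z ≤ normalizer (R : Set G) := zpowers_le.2 (CfsgLib.Comp.mem_normalizer_of_maps hnorm)
    obtain ⟨TN, hTN⟩ := ((StronglyEmbedded.isPGroup_zpowers hz).comap_of_injective N.subtype
      N.subtype_injective).exists_le_sylow (p := 2)
    haveI hRn : (R.subgroupOf N).Normal := (Subgroup.normal_subgroupOf_iff_le_normalizer le_sup_left).2
      (sup_le Subgroup.le_normalizer hzN)
    obtain ⟨TR, hTR⟩ := PLocal.exists_sylow_inf TN (R.subgroupOf N)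
    set A := (R.subgroupOf N).subgroupOf (TN : Subgroup N)
    haveI : A.Normal := inferInstance
    have hAne : A ≠ ⊥ := by
      intro e
      have h2 : 2 ∣ Nat.card (R.subgroupOf N) := by
        rw [Nat.card_congr (subgroupOfEquivOfLe (le_sup_left : R ≤ N)).toEquiv]
        exact even_iff_two_dvd.1 heven
      have h1 := TR.dvd_card_of_dvd_card h2
      rw [← Subgroup.card_map_of_injective (R.subgroupOf N).subtype_injective, hTR,
        (Subgroup.subgroupOf_eq_bot.1 e).symm.eq_bot, Subgroup.card_bot] at h1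
      omega
    haveI := TN.2.isNilpotent
    have hne' := inf_center_ne_bot_of_nilpotent (G := (TN : Subgroup N)) hAne
    obtain ⟨⟨a, ha⟩, ha1⟩ := (Subgroup.ne_bot_iff_exists_ne_one.1 hne')
    have hzT : (⟨⟨z, mem_sup_right (mem_zpowers z)⟩, hTN (mem_zpowers z)⟩ : (TN : Subgroup N)) * a =
        a * ⟨⟨z, mem_sup_right (mem_zpowers z)⟩, hTN (mem_zpowers z)⟩ := Subgroup.mem_center_iff.1 ha.2 _
    obtain ⟨j, hj⟩ := IsPGroup.iff_orderOf.1 TN.2 a
    have hj0 : j ≠ 0 := fun e => ha1 (Subtype.ext (orderOf_eq_one_iff.1 (by rw [hj, e, pow_zero])))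
    set i : G := ((a : N) : G) ^ 2 ^ (j - 1) with hi'
    have hoa : orderOf ((a : N) : G) = 2 ^ j := by rw [Subgroup.orderOf_coe, Subgroup.orderOf_coe, hj]
    have hi : orderOf i = 2 := by
      rw [hi', orderOf_pow' _ (pow_ne_zero _ two_ne_zero), hoa, Nat.gcd_eq_right (pow_dvd_pow 2 (by omega)),
        Nat.pow_div (by omega) two_pos, show j - (j - 1) = 1 by omega, pow_one]
    have haz : Commute z ((a : N) : G) :=
      congrArg (fun w : (TN : Subgroup N) => ((w : N) : G)) hzT
    have hiz : i * z = z * i := ((haz.pow_right _).eq).symm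
    have hiA : i ∈ R := R.pow_mem ha.1 _
    have hiM : i ∈ M := c.centralizer_le_M hz hzM (mem_centralizer_singleton_iff.2 hiz)
    exact c.centralizer_le_M hi hiM (mem_centralizer_singleton_iff.2
      (mem_centralizer_singleton_iff.1 hiA).symm)
  refine ⟨hxM, c.set.exists_pow_of_inverted hzz (prod_inverted hz hu) hodd, hne, hRodd, ?_, hnorm⟩
  -- a `p`-group
  refine IsPGroup.of_card (n := (Nat.card R).primeFactorsList.length) ?_
  refine Nat.eq_prime_pow_of_unique_prime_dvd (Nat.card_pos).ne' fun {q} hq hqR => ?_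
  by_contra hqp
  haveI := Fact.mk hq
  have hq2 : q ≠ 2 := fun e => Nat.not_even_iff_odd.2 hRodd (even_iff_two_dvd.2 (e ▸ hqR))
  obtain ⟨Q, hQR, hQ, hQc, hQz⟩ := CfsgLib.SmallRep.exists_invariant_sylow (p := 2) (q := q) (K := R) (x := z)
    (fun h => Nat.not_even_iff_odd.2 hRodd (even_iff_two_dvd.2 h)) (by rw [pow_two, hzz]) hnorm
  have hQ1 : Q ≠ ⊥ := fun e => by
    rw [e, Subgroup.card_bot] at hQc
    have := hq.factorization_pos_of_dvd Nat.card_pos.ne' hqR
    have h2 := Nat.one_lt_pow this.ne' hq.one_lt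
    omega
  obtain ⟨j, hj⟩ := IsPGroup.iff_card.1 hQ
  have hqp' : q.Coprime p := (Nat.coprime_primes hq c.set.prime).2 hqp
  set H := zpowers z ⊔ Q
  have hH : (Nat.card H).Coprime p := by
    refine Nat.Coprime.coprime_dvd_left (CfsgLib.TIHall.card_sup_dvd_of_le_normalizer
      (zpowers_le.2 (CfsgLib.Comp.mem_normalizer_of_maps hQz))) (Nat.Coprime.mul_left ?_ (hj ▸ hqp'.pow_left j))
    rw [Nat.card_zpowers, hz]
    simpa using c.set.coprime_two_pow 1
  obtain ⟨y, hyQ, hy1⟩ := Q.ne_bot_iff_exists_ne_one.1 hQ1 |> fun ⟨⟨y, hy⟩, h⟩ =>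
    (⟨y, hy, fun e => h (Subtype.ext e)⟩ : ∃ y ∈ Q, y ≠ 1)
  obtain ⟨i, hi⟩ := IsPGroup.iff_orderOf.1 hQ ⟨y, hyQ⟩
  rw [Subgroup.orderOf_mk] at hi
  have hyz : y * z = z * y := (comm_of_nilpotent (c.set.nil H hH) (mem_sup_left (mem_zpowers z))
    (mem_sup_right hyQ) (by
      rw [hz, hi]
      exact ((Nat.coprime_primes Nat.prime_two hq).2 (Ne.symm hq2)).pow_right i)).symm
  have hle := c.centralizer_le_of_coprime hz hzM hyz hy1 (hi ▸ (hq.odd_of_ne_two hq2).pow) (hi ▸ hqp'.pow_left i)
  refine huM (hle (mem_centralizer_singleton_iff.2 ?_))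
  have hyx : y * x = x * y := mem_centralizer_singleton_iff.1 (hQR hyQ)
  have hu' : u = z * x := by rw [hx, ← mul_assoc, hzz, one_mul]
  rw [hu']
  calc z * x * y = z * (y * x) := by rw [hyx, mul_assoc]
    _ = y * (z * x) := by rw [← mul_assoc, ← hyz, mul_assoc]

end CfsgLib.PNilHall
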